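import Groth.Agent.GrLC.K993.CanPair

/-!
# The canonical module of a finite graded algebra over a Cohen–Macaulay graded ring
-/

set_option autoImplicit false
set_option linter.unusedSectionVars false
set_option linter.unusedVariables false
set_option linter.style.haveILetI false
universe u

open GrLC DirectSum K963.Iface K761.Gr

namespace K993.CanExt

section Rad

variable {R : Type u} [CommRing R] {𝒜 : ℤ → AddSubgroup R} [GradedRing 𝒜]
variable {S : Type u} [CommRing S] [Algebra R S] {𝒮 : ℤ → AddSubgroup S} [GradedRing 𝒮]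
variable (hf : ∀ j : ℤ, ∀ r ∈ 𝒜 j, algebraMap R S r ∈ 𝒮 j)

include hf in
theorem pr_algebraMap (j : ℤ) (r : R) : pr 𝒮 j (algebraMap R S r) = algebraMap R S (pr 𝒜 j r) := by
  induction r using K761.Gr.induction 𝒜 with
  | h0 => simp
  | hadd a b ha hb => rw [map_add, map_add, ha, hb, map_add, map_add]
  | hom i r hr =>
    by_cases h : i = j
    · subst h
      rw [pr_of_mem (hf i r hr), pr_of_mem hr]
    · rw [pr_of_mem_ne (hf i r hr) h, pr_of_mem_ne hr h, map_zero]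

theorem pr_mul_right {i j : ℤ} (a : S) {b : S} (hb : b ∈ 𝒮 j) : pr 𝒮 (i + j) (a * b) = pr 𝒮 i a * b :=
  coe_decompose_mul_add_of_right_mem 𝒮 hb

include hf in
/-- a homogeneous element of positive degree of a finite graded algebra is nilpotent modulo the positive part of
the base -/
theorem exists_pow_mem [Algebra.IsIntegral R S] {m : Ideal R}
    (hm : m = Ideal.span (⋃ n ∈ Set.Ioi (0 : ℤ), (𝒜 n : Set R))) {j : ℤ} (hj : 0 < j) {x : S} (hx : x ∈ 𝒮 j) :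
    ∃ N : ℕ, x ^ N ∈ m.map (algebraMap R S) := by
  obtain ⟨p, hp, h0⟩ := Algebra.IsIntegral.isIntegral (R := R) x
  refine ⟨p.natDegree, ?_⟩
  rw [Polynomial.eval₂_eq_sum_range, Finset.sum_range_succ] at h0
  have h1 := congrArg (pr 𝒮 ((p.natDegree : ℤ) * j)) h0
  have hpow : ∀ i : ℕ, x ^ i ∈ 𝒮 ((i : ℤ) * j) := fun i => by
    have := SetLike.pow_mem_graded i hx
    rwa [nsmul_eq_mul] at this
  have h2 : ∀ i : ℕ, pr 𝒮 ((p.natDegree : ℤ) * j) (algebraMap R S (p.coeff i) * x ^ i) =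
      algebraMap R S (pr 𝒜 (((p.natDegree : ℤ) - i) * j) (p.coeff i)) * x ^ i := by
    intro i
    rw [show ((p.natDegree : ℤ) * j) = ((p.natDegree : ℤ) - i) * j + i * j by ring, pr_mul_right _ (hpow i),
      pr_algebraMap hf]
  rw [map_add, map_sum, map_zero] at h1
  simp only [h2] at h1
  rw [hp.coeff_natDegree, sub_self, zero_mul, pr_of_mem (SetLike.GradedOne.one_mem (A := 𝒜)), map_one, one_mul] at h1
  rw [← add_eq_zero_iff_neg_eq.1 h1]
  refine neg_mem (Ideal.sum_mem _ fun i hi => Ideal.mul_mem_right _ _ (Ideal.mem_map_of_mem _ ?_))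
  rw [hm]
  refine Ideal.subset_span ?_
  rw [Set.mem_iUnion₂]
  refine ⟨_, ?_, pr_mem 𝒜 _ _⟩
  rw [Finset.mem_range] at hi
  have : (0 : ℤ) < (p.natDegree : ℤ) - i := by omega
  exact mul_pos this hj

include hf in
theorem radical_map [Algebra.IsIntegral R S] {m : Ideal R} {m' : Ideal S}
    (hm : m = Ideal.span (⋃ n ∈ Set.Ioi (0 : ℤ), (𝒜 n : Set R)))
    (hm' : m' = Ideal.span (⋃ n ∈ Set.Ioi (0 : ℤ), (𝒮 n : Set S))) :
    (m.map (algebraMap R S)).radical = m'.radical := by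
  apply le_antisymm
  · refine Ideal.radical_mono ?_
    rw [hm, Ideal.map_span, Ideal.span_le]
    rintro _ ⟨r, hr, rfl⟩
    rw [Set.mem_iUnion₂] at hr
    obtain ⟨j, hj, hr⟩ := hr
    rw [hm']
    refine Ideal.subset_span ?_
    rw [Set.mem_iUnion₂]
    exact ⟨j, hj, hf j r hr⟩
  · refine (Ideal.radical_isRadical _).radical_le_iff.2 ?_
    rw [hm', Ideal.span_le]
    intro x hx
    rw [Set.mem_iUnion₂] at hx
    obtain ⟨j, hj, hx⟩ := hx
    exact exists_pow_mem hf hm hj hx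

end Rad

section Final

variable {R : Type u} [CommRing R] [LocCoh.IsCohenMacaulayRing R] {𝒜 : ℤ → AddSubgroup R} [GradedRing 𝒜]
  (hpos : ∀ n : ℤ, n < 0 → 𝒜 n = ⊥) (h0 : IsField (GrLC.deg0 𝒜)) {m : HomogeneousIdeal 𝒜}
  (hmsp : m.toIdeal = Ideal.span (⋃ n ∈ Set.Ioi (0 : ℤ), (𝒜 n : Set R))) {n : ℕ} (hn : ringKrullDim R = n)
  (I : GrLC.StarInjRes 𝒜 𝒜) {E' : Type u} [AddCommGroup E'] [Module R E'] {𝓔 : ℤ → AddSubgroup E'}
  [DirectSum.Decomposition 𝓔] [SetLike.GradedSMul 𝒜 𝓔] {e : (R ⧸ m.toIdeal) →ₗ[R] E'}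
  (he : GrLC.IsStarInjHull 𝒜 (GrLC.quotGr 𝒜 m) 𝓔 e) {C : Type u} [AddCommGroup C] [Module R C]
  {𝒞 : ℤ → AddSubgroup C} [DirectSum.Decomposition 𝒞] [SetLike.GradedSMul 𝒜 𝒞]
  (hC : GrLC.IsStarCanonical 𝒜 𝒞 𝓔 m n I)
  {S : Type u} [CommRing S] [IsNoetherianRing S] [Algebra R S] [Module.Finite R S] {𝒜' : ℤ → AddSubgroup S}
  [GradedRing 𝒜'] (hf : ∀ j : ℤ, ∀ r ∈ 𝒜 j, algebraMap R S r ∈ 𝒜' j)
  (hpos' : ∀ j : ℤ, j < 0 → 𝒜' j = ⊥) (h0' : IsField (GrLC.deg0 𝒜')) {m' : HomogeneousIdeal 𝒜'}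
  (hm'sp : m'.toIdeal = Ideal.span (⋃ j ∈ Set.Ioi (0 : ℤ), (𝒜' j : Set S))) {n' : ℕ} (hn' : ringKrullDim S = n')
  (I' : GrLC.StarInjRes 𝒜' 𝒜') {E'' : Type u} [AddCommGroup E''] [Module S E''] {𝓔'' : ℤ → AddSubgroup E''}
  [DirectSum.Decomposition 𝓔''] [SetLike.GradedSMul 𝒜' 𝓔''] {e' : (S ⧸ m'.toIdeal) →ₗ[S] E''}
  (he' : GrLC.IsStarInjHull 𝒜' (GrLC.quotGr 𝒜' m') 𝓔'' e') {C' : Type u} [AddCommGroup C'] [Module S C']
  [Module R C'] [IsScalarTower R S C'] {𝒞' : ℤ → AddSubgroup C'} [DirectSum.Decomposition 𝒞']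
  [SetLike.GradedSMul 𝒜' 𝒞'] (hC' : GrLC.IsStarCanonical 𝒜' 𝒞' 𝓔'' m' n' I')
  {k : Type u} [Field k] [Algebra k R] (ι : k ≃+* deg0 𝒜) (hι : ∀ c, algebraMap k R c = (ι c : R))
  (ι' : k ≃+* deg0 𝒜') (hι' : ∀ c, algebraMap R S (algebraMap k R c) = (ι' c : S))

include hpos h0 hmsp hn he hC hf hpos' h0' hm'sp hn' he' hC' ι hι ι' hι'

theorem final : Nonempty (C' ≃ₗ[R] CategoryTheory.Abelian.Ext.{u} (ModuleCat.of R S) (ModuleCat.of R C) (n - n')) := by
  -- dimension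
  have hle : n' ≤ n := by
    have h1 := Groth.Agent.FlatA.DimFin.ringKrullDim_le_of_isIntegral R S
    rw [hn, hn'] at h1
    exact_mod_cast h1
  -- `k`-structures
  letI : Algebra k S := ((algebraMap R S).comp (algebraMap k R)).toAlgebra
  letI : Module k C := Module.compHom C (algebraMap k R)
  haveI : IsScalarTower k R C := ⟨fun c r z => by rw [Algebra.smul_def, mul_smul]; rfl⟩
  letI : Module k C' := Module.compHom C' (algebraMap k R)
  haveI : IsScalarTower k R C' := ⟨fun c r z => by rw [Algebra.smul_def, mul_smul]; rfl⟩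
  haveI : IsScalarTower k S C' := ⟨fun c s z => by
    rw [Algebra.smul_def, mul_smul]
    exact algebraMap_smul S (algebraMap k R c) (s • z)⟩
  letI : Module k (I.H m n) := Module.compHom _ (algebraMap k R)
  haveI : IsScalarTower k R (I.H m n) := ⟨fun c r z => by rw [Algebra.smul_def, mul_smul]; rfl⟩
  letI : Module k (I'.H m' n') := Module.compHom _ (algebraMap k S)
  haveI : IsScalarTower k S (I'.H m' n') := ⟨fun c r z => by rw [Algebra.smul_def, mul_smul]; rfl⟩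
  letI := K963.Cat.Hdec I m n
  letI := K963.Cat.Hdec I' m' n'
  obtain ⟨β, hβ⟩ := CanPair.exists_gdual hpos h0 hmsp ι hι he I hC
  obtain ⟨β', hβ'⟩ := CanPair.exists_gdual hpos' h0' hm'sp ι' hι' he' I' hC'
  -- `S` over `R`
  haveI : SetLike.GradedSMul 𝒜 𝒜' := Restr.gradedSMul_res (𝒮 := 𝒜') hf 𝒜'
  obtain ⟨G⟩ := nonempty_res 𝒜 𝒜'
  obtain ⟨Ψ, hΨ, hgr⟩ := Restr.exists_semilinear hf m m' (radical_map hf hmsp hm'sp) I' G n'
  letI : Module k (G.H m n') := Module.compHom _ (algebraMap k R)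
  haveI : IsScalarTower k R (G.H m n') := ⟨fun c r z => by rw [Algebra.smul_def, mul_smul]; rfl⟩
  letI := K963.Cat.Hdec G m n'
  obtain ⟨β'', hβ''⟩ := ExtDual.transport (RingEquiv.refl k) (f := algebraMap R S) (𝒲 := G.Hgr m n')
    (fun c => rfl) (fun r d => (algebraMap_smul S r d).symm) hβ' Ψ hΨ hgr
  refine ExtDual.main (fun c => ?_) hβ hn.le (fun i hi => ?_) (n - n') n' (by omega) G β'' hβ''
  · rw [hι]; exact (ι c).2
  · obtain ⟨e⟩ := K759.AcycInj.nonempty_equiv I m i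
    exact @Equiv.subsingleton _ _ e.toEquiv (K763.CMvan.subsingleton_H 𝒜 hpos h0 hmsp hn hi)

end Final

end K993.CanExt
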