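import Groth.Agent.GrLC.K763.VerMain
import Groth.Agent.Localalg.LCRows

/-!
# Graded local cohomology and restriction of scalars along a graded ring map
-/

set_option autoImplicit false
set_option linter.unusedSectionVars false
set_option linter.unusedVariables false
universe u

open DirectSum GrLC K763.GamHom K763.Ver

namespace K993.Restr

variable {R : Type u} [CommRing R] {𝒜 : ℤ → AddSubgroup R} [GradedRing 𝒜]
variable {S : Type u} [CommRing S] [Algebra R S] {𝒮 : ℤ → AddSubgroup S} [GradedRing 𝒮]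

theorem gradedSMul_res (hf : ∀ j : ℤ, ∀ r ∈ 𝒜 j, algebraMap R S r ∈ 𝒮 j) {M : Type u} [AddCommGroup M] [Module S M]
    [Module R M] [IsScalarTower R S M] (ℳ : ℤ → AddSubgroup M) [SetLike.GradedSMul 𝒮 ℳ] :
    SetLike.GradedSMul 𝒜 ℳ where
  smul_mem := fun {i j r x} hr hx => by
    have h := SetLike.GradedSMul.smul_mem (A := 𝒮) (B := ℳ) (hf i r hr) hx
    rwa [algebraMap_smul] at h

/-- restriction of scalars of a graded module -/
noncomputable def res (hf : ∀ j : ℤ, ∀ r ∈ 𝒜 j, algebraMap R S r ∈ 𝒮 j) (X : GMod.{u} 𝒮) : GMod.{u} 𝒜 :=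
  letI : Module R X.carrier := Module.compHom X.carrier (algebraMap R S)
  haveI : IsScalarTower R S X.carrier := IsScalarTower.of_algebraMap_smul fun _ _ => rfl
  haveI : SetLike.GradedSMul 𝒜 X.gr := gradedSMul_res hf X.gr
  GMod.of 𝒜 X.carrier X.gr

/-- a linear map over `S` is linear over `R` -/
def resL (hf : ∀ j : ℤ, ∀ r ∈ 𝒜 j, algebraMap R S r ∈ 𝒮 j) {X Y : GMod.{u} 𝒮} (f : X.carrier →ₗ[S] Y.carrier) :
    (res hf X).carrier →ₗ[R] (res hf Y).carrier where
  toFun x := f x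
  map_add' x y := map_add f x y
  map_smul' r x := f.map_smul (algebraMap R S r) (show X.carrier from x)

theorem mem_gam_iff' (hf : ∀ j : ℤ, ∀ r ∈ 𝒜 j, algebraMap R S r ∈ 𝒮 j) [IsNoetherianRing S] {a : Ideal R} {b : Ideal S}
    (hab : (a.map (algebraMap R S)).radical = b.radical) (X : GMod.{u} 𝒮) (x : X.carrier) :
    (x : (res hf X).carrier) ∈ gam a (res hf X).carrier ↔ x ∈ gam b X.carrier := by
  rw [← gam_eq_of_radical (M := X.carrier) hab]
  constructor
  · rintro ⟨n, hn⟩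
    refine ⟨n, fun s hs => ?_⟩
    rw [← Ideal.map_pow] at hs
    refine Submodule.span_induction ?_ (zero_smul _ _) ?_ ?_ hs
    · rintro _ ⟨r, hr, rfl⟩
      exact hn r hr
    · intro s t _ _ h1 h2
      rw [add_smul, h1, h2, add_zero]
    · intro c s _ h1
      rw [smul_eq_mul, mul_smul, h1, smul_zero]
  · rintro ⟨n, hn⟩
    refine ⟨n, fun r hr => ?_⟩
    refine hn (algebraMap R S r) ?_
    rw [← Ideal.map_pow]
    exact Ideal.mem_map_of_mem _ hr

theorem subsingleton_res (hf : ∀ j : ℤ, ∀ r ∈ 𝒜 j, algebraMap R S r ∈ 𝒮 j) [IsNoetherianRing R] [IsNoetherianRing S]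
    {a : Ideal R} {b : Ideal S} (hab : (a.map (algebraMap R S)).radical = b.radical) (X : GMod.{u} 𝒮) (p : ℕ)
    (h : Subsingleton (LocCoh.H b p X.carrier)) : Subsingleton (LocCoh.H a p (res hf X).carrier) := by
  let _ : Module R X.carrier := Module.compHom X.carrier (algebraMap R S)
  have _ : IsScalarTower R S X.carrier := IsScalarTower.of_algebraMap_smul fun _ _ => rfl
  have h1 : Subsingleton (LocCoh.H (a.map (algebraMap R S)) p X.carrier) := by
    let e := (localCohomology.isoOfSameRadical (J := a.map (algebraMap R S)) (K := b) hab p).app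
      (ModuleCat.of S X.carrier)
    exact e.toLinearEquiv.toEquiv.subsingleton
  exact (Groth.Agent.Localalg.LCRows.subsingleton_iff_res (B := S) a p X.carrier).1 h1

variable [IsNoetherianRing R] [IsNoetherianRing S]

/-- **Graded local cohomology does not depend on the base ring**: for a graded ring map `R → S` and homogeneous
ideals `a`, `b` with `rad (a S) = rad b`. -/
theorem exists_semilinear' (hf : ∀ j : ℤ, ∀ r ∈ 𝒜 j, algebraMap R S r ∈ 𝒮 j) (a : HomogeneousIdeal 𝒜)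
    (b : HomogeneousIdeal 𝒮) (hab : (a.toIdeal.map (algebraMap R S)).radical = b.toIdeal.radical)
    (M : GMod.{u} 𝒮) (E : StarInjRes 𝒮 M.gr) (F : StarInjRes 𝒜 (res hf M).gr) (p : ℕ) :
    ∃ Ψ : F.H a p →ₛₗ[algebraMap R S] E.H b p, Function.Bijective Ψ ∧
      ∀ (j : ℤ) (x : F.H a p), x ∈ F.Hgr a p j ↔ Ψ x ∈ E.Hgr b p j := by
  -- powers of ideals
  have hpow : ∀ m : ℕ, ∀ r ∈ a.toIdeal ^ m, algebraMap R S r ∈ (a.toIdeal.map (algebraMap R S)) ^ m := by
    intro m r hr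
    rw [← Ideal.map_pow]
    exact Ideal.mem_map_of_mem _ hr
  have hpow2 : ∀ m : ℕ, ∃ m' : ℕ, ∀ r ∈ a.toIdeal ^ m', algebraMap R S r ∈ b.toIdeal ^ m := by
    intro m
    obtain ⟨k, hk⟩ := Ideal.exists_pow_le_of_le_radical_of_fg (I := a.toIdeal.map (algebraMap R S))
      (J := b.toIdeal) (hab ▸ Ideal.le_radical) (IsNoetherian.noetherian _)
    refine ⟨k * m, fun r hr => ?_⟩
    have h1 := hpow _ r hr
    rw [pow_mul] at h1
    exact Ideal.pow_right_mono hk m h1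
  -- comparison over `S`
  obtain ⟨⟨φ0, hφ0⟩, hs⟩ := K963.Iface.comparison b (cpx E b) (cpxd E b) (cpxd_gr E b) (cpxdd E b)
    (cpx_tors0 E b) (cpx_tors E b) (fun n E₁ p => by
      obtain ⟨e⟩ := K763.Cmp.compare S 𝒮 b _ _ E₁ p
      exact @Equiv.subsingleton _ _ e.toEquiv (subsingleton_modGam b (E.X n) (E.starInj n) p)) E
  -- comparison over `R`
  obtain ⟨⟨φ0', hφ0'⟩, hs'⟩ := K963.Iface.comparison a (fun n => res hf (cpx E b n))
    (fun n => resL hf (cpxd E b n)) (fun n => cpxd_gr E b n)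
    (fun n x => cpxdd E b n x)
    (fun x hx => (mem_gam_iff' hf hab (cpx E b 0) x).2 (cpx_tors0 E b x hx))
    (fun n x hx => by
      obtain ⟨m, hm⟩ := cpx_tors E b n x hx
      obtain ⟨m', hm'⟩ := hpow2 m
      refine ⟨m', fun r hr => ?_⟩
      obtain ⟨y, hy⟩ := hm _ (hm' r hr)
      exact ⟨y, hy⟩)
    (fun n E₁ p => by
      obtain ⟨e⟩ := K763.Cmp.compare R 𝒜 a _ _ E₁ p
      have h1 := subsingleton_modGam b (E.X n) (E.starInj n) p
      exact @Equiv.subsingleton _ _ e.toEquiv (subsingleton_res hf hab (cpx E b (n + 1)) p h1)) F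
  let gk : ∀ n, LinearMap.ker (resL hf (cpxd E b n)) →ₛₗ[algebraMap R S] LinearMap.ker (cpxd E b n) := fun n =>
    { toFun := fun z => ⟨z.1, z.2⟩
      map_add' := fun x y => rfl
      map_smul' := fun r x => rfl }
  have hgk : ∀ n, Function.Bijective (gk n) := fun n =>
    ⟨fun x y h => Subtype.ext (congrArg Subtype.val h), fun y => ⟨⟨y.1, y.2⟩, rfl⟩⟩
  cases p with
  | zero =>
    obtain ⟨Ψ, hΨ, hΨ2⟩ := K763.Glue.exists_glue φ0'.toLinearMap φ0'.surjective φ0.toLinearMap (gk 0)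
      (fun z => by
        rw [LinearEquiv.coe_coe, LinearEquiv.coe_coe, LinearEquiv.map_eq_zero_iff,
          LinearEquiv.map_eq_zero_iff]
        constructor
        · rintro rfl; exact map_zero _
        · intro h
          exact (hgk 0).1 (h.trans (map_zero _).symm))
    refine ⟨Ψ, ⟨hΨ, fun y => ?_⟩, fun j x => ?_⟩
    · obtain ⟨z, rfl⟩ := φ0.surjective y
      obtain ⟨w, rfl⟩ := (hgk 0).2 z
      exact ⟨_, hΨ2 w⟩
    · obtain ⟨z, rfl⟩ := φ0'.surjective x
      have h1 : Ψ (φ0' z) = φ0 (gk 0 z) := hΨ2 z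
      have h2 : Ψ (φ0' z) ∈ E.Hcomp b 0 j ↔ φ0 (gk 0 z) ∈ E.Hcomp b 0 j := by rw [← h1]
      exact (hφ0' z j).trans ((hφ0 (gk 0 z) j).symm.trans h2.symm)
  | succ p =>
    obtain ⟨s, hs1, hs2, hs3, hs4⟩ := hs p
    obtain ⟨s', hs1', hs2', hs3', hs4'⟩ := hs' p
    obtain ⟨Ψ, hΨ, hΨ2⟩ := K763.Glue.exists_glue s' hs1' s (gk (p + 1)) (fun z => by
      rw [← LinearMap.mem_ker, hs2', ← LinearMap.mem_ker, hs2, Submodule.mem_comap,
        Submodule.mem_comap]
      constructor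
      · rintro ⟨y, hy⟩
        exact ⟨y, hy⟩
      · rintro ⟨y, hy⟩
        exact ⟨y, hy⟩)
    refine ⟨Ψ, ⟨hΨ, fun y => ?_⟩, fun j x => ⟨fun hx => ?_, fun hx => ?_⟩⟩
    · obtain ⟨z, rfl⟩ := hs1 y
      obtain ⟨w, rfl⟩ := (hgk (p + 1)).2 z
      exact ⟨_, hΨ2 w⟩
    · obtain ⟨z, hz, rfl⟩ := hs4' j x hx
      have h1 : Ψ (s' z) = s (gk (p + 1) z) := hΨ2 z
      change Ψ (s' z) ∈ E.Hcomp b (p + 1) j
      rw [h1]
      exact hs3 _ _ hz
    · obtain ⟨z, hz, hzx⟩ := hs4 j _ hx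
      obtain ⟨w, rfl⟩ := (hgk (p + 1)).2 z
      have h2 : x = s' w := hΨ (hzx.symm.trans (hΨ2 w).symm)
      rw [h2]
      exact hs3' w j hz

/-- unbundled form -/
theorem exists_semilinear (hf : ∀ j : ℤ, ∀ r ∈ 𝒜 j, algebraMap R S r ∈ 𝒮 j) (a : HomogeneousIdeal 𝒜)
    (b : HomogeneousIdeal 𝒮) (hab : (a.toIdeal.map (algebraMap R S)).radical = b.toIdeal.radical)
    {M : Type u} [AddCommGroup M] [Module S M] [inst : Module R M] [IsScalarTower R S M] {ℳ : ℤ → AddSubgroup M}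
    [DirectSum.Decomposition ℳ] [SetLike.GradedSMul 𝒮 ℳ] [SetLike.GradedSMul 𝒜 ℳ]
    (E : StarInjRes 𝒮 ℳ) (F : StarInjRes 𝒜 ℳ) (p : ℕ) :
    ∃ Ψ : F.H a p →ₛₗ[algebraMap R S] E.H b p, Function.Bijective Ψ ∧
      ∀ (j : ℤ) (x : F.H a p), x ∈ F.Hgr a p j ↔ Ψ x ∈ E.Hgr b p j := by
  have h : inst = Module.compHom M (algebraMap R S) := by
    refine Module.ext' _ _ fun r x => ?_
    change r • x = algebraMap R S r • x
    rw [algebraMap_smul]
  subst h
  exact exists_semilinear' hf a b hab (GMod.of 𝒮 M ℳ) E F p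

end K993.Restr
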