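import Groth.Agent.GrLC.K993.ExtDual
import Groth.Agent.GrLC.K993.Restr
import Groth.Agent.GrLC.K763.PairC
import Groth.Agent.GrLC.K763.CMvan
import Groth.Agent.FlatA.DimFin

/-!
# A *canonical module over a graded ring with `R_0` a field is the graded dual of the top local cohomology
-/

set_option autoImplicit false
set_option linter.unusedSectionVars false
set_option linter.unusedVariables false
set_option linter.style.haveILetI false
universe u

open GrLC DirectSum K963.Iface K761.Gr K763.PairC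

namespace K993.CanPair

section Pair

variable {R : Type u} [CommRing R] {𝒜 : ℤ → AddSubgroup R} [GradedRing 𝒜]
variable (hpos : ∀ n : ℤ, n < 0 → 𝒜 n = ⊥) (h0 : IsField (deg0 𝒜))
variable {m : HomogeneousIdeal 𝒜} (hm : m.toIdeal = Ideal.span (⋃ n ∈ Set.Ioi (0 : ℤ), (𝒜 n : Set R)))
variable {E' : Type u} [AddCommGroup E'] [Module R E'] {𝓔 : ℤ → AddSubgroup E'}
  [Decomposition 𝓔] [SetLike.GradedSMul 𝒜 𝓔] {e : (R ⧸ m.toIdeal) →ₗ[R] E'}
variable {C : Type u} [AddCommGroup C] [Module R C] {𝒞 : ℤ → AddSubgroup C} [Decomposition 𝒞]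
  [SetLike.GradedSMul 𝒜 𝒞]
variable {k : Type u} [Field k] [Algebra k R] (ι : k ≃+* deg0 𝒜) (hι : ∀ c, algebraMap k R c = (ι c : R))

include hpos h0 hm hι in
theorem exists_gdual_aux [IsNoetherianRing R] [Module.Finite R C] (he : IsStarInjHull 𝒜 (GrLC.quotGr 𝒜 m) 𝓔 e)
    [Module k C] [IsScalarTower k R C]
    {H : Type u} [AddCommGroup H] [Module R H] [Module k H] [IsScalarTower k R H] {ℋ : ℤ → AddSubgroup H}
    [Decomposition ℋ] [SetLike.GradedSMul 𝒜 ℋ] (Φ : (C →ₗ[R] E') ≃ₗ[R] H)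
    (hΦ : IsGrHom (fun d => (homDeg 𝒜 𝒞 𝓔 d).toAddSubgroup) ℋ Φ.toLinearMap) :
    ∃ β : C →ₗ[k] H →ₗ[k] k, GrSeg.IsGDual R ℋ 𝒞 β := by
  have hB := isPP (𝒜 := 𝒜) (ℋ := ℋ) (𝒞 := 𝒞) (𝓔 := 𝓔) hpos h0 hm he Φ hΦ
  generalize B (𝒜 := 𝒜) 𝓔 Φ = B at hB
  let ε := K763.Mat.zeroEquiv hpos h0 hm he.toIsStarEss
  have hs : ∀ {X : Type u} [AddCommGroup X] [Module R X] [Module k X] [IsScalarTower k R X] (c : k) (x : X),
      c • x = (ι c) • x := fun c x => by
    rw [← algebraMap_smul R c x, hι]; rfl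
  have hm' : ∀ (c : k) (w : comp 𝒜 𝓔 0), ι.symm (ε.symm (ι c • w)) = c • ι.symm (ε.symm w) := fun c w => by
    rw [map_smul, smul_eq_mul, map_mul, ι.symm_apply_apply, smul_eq_mul]
  let β : C →ₗ[k] H →ₗ[k] k := LinearMap.mk₂ k (fun c h => ι.symm (ε.symm (B h c)))
    (fun c c' h => by rw [map_add, map_add, map_add])
    (fun a c h => by rw [hs, map_smul, hm'])
    (fun c h h' => by rw [map_add, LinearMap.add_apply, map_add, map_add])
    (fun a c h => by rw [hs, map_smul, LinearMap.smul_apply, hm'])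
  have hβ : ∀ c h, β c h = ι.symm (ε.symm (B h c)) := fun c h => rfl
  refine ⟨β, ?_, ?_, ?_, ?_⟩
  · intro r c h
    rw [hβ, hβ, hB.adj]
  · intro n c hc i hi h hh
    rw [hβ, hB.homog i n h c hh hc (by omega), map_zero, map_zero]
  · intro n c hc hz
    refine hB.ndr (-n) n (by omega) c hc fun h hh => ?_
    have := hz h hh
    rwa [hβ, map_eq_zero_iff _ ι.symm.injective, map_eq_zero_iff _ ε.symm.injective] at this
  · intro n g
    let l : comp 𝒜 ℋ (-n) →ₗ[deg0 𝒜] comp 𝒜 𝓔 0 :=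
      { toFun := fun x => ε (ι (g x))
        map_add' := fun x y => by
          rw [Submodule.coe_add, map_add, map_add, map_add]
        map_smul' := fun r x => by
          obtain ⟨c, rfl⟩ := ι.surjective r
          rw [Submodule.coe_smul, ← hs, map_smul, smul_eq_mul, map_mul, RingHom.id_apply, ← smul_eq_mul, map_smul] }
    obtain ⟨c, hc, hc'⟩ := hB.perfr (-n) n (by omega) l
    refine ⟨c, hc, fun h hh => ?_⟩
    rw [hβ, hc' ⟨h, hh⟩]
    change ι.symm (ε.symm (ε (ι (g h)))) = _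
    rw [ε.symm_apply_apply, ι.symm_apply_apply]

include hpos h0 hm hι in
theorem exists_gdual [IsNoetherianRing R] (he : IsStarInjHull 𝒜 (GrLC.quotGr 𝒜 m) 𝓔 e)
    [Module k C] [IsScalarTower k R C] {n : ℕ} (I : StarInjRes 𝒜 𝒜) [Module k (I.H m n)]
    [IsScalarTower k R (I.H m n)] [Decomposition (I.Hgr m n)] (hC : IsStarCanonical 𝒜 𝒞 𝓔 m n I) :
    ∃ β : C →ₗ[k] I.H m n →ₗ[k] k, GrSeg.IsGDual R (I.Hgr m n) 𝒞 β := by
  obtain ⟨hfin, φ, hφ⟩ := hC
  have : SetLike.GradedSMul 𝒜 (I.Hgr m n) := K963.Iface.Hgsmul I m n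
  exact exists_gdual_aux hpos h0 hm ι hι he φ hφ

end Pair

end K993.CanPair
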