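import Groth.Agent.GrLC.K993.TopRel
import Groth.Agent.GrLC.K760.ExtGr
import Groth.Agent.Deform.K681.ExtOne

/-!
# Graded local duality over a Cohen–Macaulay graded ring: the dual of `H^{n-t}(M)` is `Ext^t(M, K)`
-/

set_option autoImplicit false
set_option linter.unusedSectionVars false
set_option linter.unusedVariables false
set_option linter.style.haveILetI false
universe u

open GrLC DirectSum K963.Iface K993.Mu K993.TopH K993.TopGen K993.Basic K993.TopRel CategoryTheory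

namespace K993.ExtDual

/-! ### transport of graded duals -/

section Transport

/-- transport of a graded dual along a semilinear isomorphism compatible with the gradings -/
theorem transport {k k' R S : Type u} [Field k] [Field k'] [CommRing R] [CommRing S] [Algebra k R] [Algebra k' S]
    (ι : k ≃+* k') {f : R →+* S} (hf : ∀ c, f (algebraMap k R c) = algebraMap k' S (ι c))
    {W : Type u} [AddCommGroup W] [Module R W] [Module k W] [IsScalarTower k R W]
    {𝒲 : ℤ → AddSubgroup W} [Decomposition 𝒲]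
    {W' : Type u} [AddCommGroup W'] [Module S W'] [Module k' W'] [IsScalarTower k' S W']
    {𝒲' : ℤ → AddSubgroup W'} [Decomposition 𝒲']
    {D : Type u} [AddCommGroup D] [Module R D] [Module S D] [Module k D] [Module k' D] [IsScalarTower k R D]
    [IsScalarTower k' S D] (hD : ∀ (r : R) (d : D), r • d = f r • d) {𝒟 : ℤ → AddSubgroup D} [Decomposition 𝒟]
    {β' : D →ₗ[k'] W' →ₗ[k'] k'} (h : GrSeg.IsGDual S 𝒲' 𝒟 β')
    (Ψ : W →ₛₗ[f] W') (hΨ : Function.Bijective Ψ) (hgr : ∀ j x, x ∈ 𝒲 j ↔ Ψ x ∈ 𝒲' j) :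
    ∃ β : D →ₗ[k] W →ₗ[k] k, GrSeg.IsGDual R 𝒲 𝒟 β := by
  have h1 : ∀ (c : k) (w : W), Ψ (c • w) = ι c • Ψ w := fun c w => by
    rw [← algebraMap_smul R c w, Ψ.map_smulₛₗ, hf, algebraMap_smul]
  have h2 : ∀ (c : k) (d : D), c • d = ι c • d := fun c d => by
    rw [← algebraMap_smul R c d, hD, hf, algebraMap_smul]
  let β : D →ₗ[k] W →ₗ[k] k := LinearMap.mk₂ k (fun d w => ι.symm (β' d (Ψ w)))
    (fun d d' w => by rw [map_add, LinearMap.add_apply, map_add])
    (fun c d w => by rw [h2, map_smul, LinearMap.smul_apply, smul_eq_mul, map_mul, ι.symm_apply_apply, smul_eq_mul])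
    (fun d w w' => by rw [map_add, map_add, map_add])
    (fun c d w => by rw [h1, map_smul, smul_eq_mul, map_mul, ι.symm_apply_apply, smul_eq_mul])
  have hβ : ∀ d w, β d w = ι.symm (β' d (Ψ w)) := fun d w => rfl
  refine ⟨β, ?_, ?_, ?_, ?_⟩
  · intro r d w
    rw [hβ, hβ, hD, h.map_smul, Ψ.map_smulₛₗ]
  · intro n d hd m hm x hx
    rw [hβ, h.vanish n d hd m hm _ ((hgr m x).1 hx), map_zero]
  · intro n d hd hz
    refine h.eq_zero n d hd fun y hy => ?_
    obtain ⟨x, rfl⟩ := hΨ.2 y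
    have h3 := hz x ((hgr _ x).2 hy)
    rwa [hβ, map_eq_zero_iff _ ι.symm.injective] at h3
  · intro n g
    let e : W ≃ W' := Equiv.ofBijective Ψ hΨ
    have he : ∀ y, Ψ (e.symm y) = y := fun y => e.apply_symm_apply y
    have he' : ∀ y, e.symm (Ψ y) = y := fun y => e.symm_apply_apply y
    let g' : W' →ₗ[k'] k' :=
      { toFun := fun y => ι (g (e.symm y))
        map_add' := fun y y' => by
          have : e.symm (y + y') = e.symm y + e.symm y' := hΨ.1 ((he _).trans (by rw [map_add Ψ, he, he]))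
          rw [this, map_add, map_add]
        map_smul' := fun c y => by
          obtain ⟨c, rfl⟩ := ι.surjective c
          have : e.symm (ι c • y) = c • e.symm y := hΨ.1 ((he _).trans (by rw [h1, he]))
          rw [this, map_smul, smul_eq_mul, map_mul, RingHom.id_apply, smul_eq_mul] }
    obtain ⟨d, hd, hd'⟩ := h.exists_eq n g'
    refine ⟨d, hd, fun x hx => ?_⟩
    rw [hβ, hd' _ ((hgr _ x).1 hx)]
    change ι.symm (ι (g (e.symm (Ψ x)))) = _
    rw [he', ι.symm_apply_apply]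

end Transport

/-! ### Ext -/

theorem ext_shift {R : Type u} [CommRing R] {Z F M N : Type u} [AddCommGroup Z] [Module R Z] [AddCommGroup F] [Module R F]
    [AddCommGroup M] [Module R M] [AddCommGroup N] [Module R N] [Module.Projective R F]
    (i : Z →ₗ[R] F) (p : F →ₗ[R] M)
    (hi : Function.Injective i) (hex : Function.Exact i p) (hp : Function.Surjective p) (t : ℕ) :
    Nonempty (Abelian.Ext.{u} (ModuleCat.of R Z) (ModuleCat.of R N) (t + 1) ≃ₗ[R]
      Abelian.Ext.{u} (ModuleCat.of R M) (ModuleCat.of R N) (t + 2)) := by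
  have h0 : p ∘ₗ i = 0 := hex.linearMap_comp_eq_zero
  let S : ShortComplex (ModuleCat.{u} R) := ShortComplex.mk (ModuleCat.ofHom i) (ModuleCat.ofHom p) (by
    rw [← ModuleCat.ofHom_comp, h0]; rfl)
  have hS : S.ShortExact :=
    { exact := (ShortComplex.ShortExact.moduleCat_exact_iff_function_exact S).2 hex
      mono_f := (ModuleCat.mono_iff_injective _).2 hi
      epi_g := (ModuleCat.epi_iff_surjective _).2 hp }
  have : Projective S.X₂ := (IsProjective.iff_projective (R := R) F).1 inferInstance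
  have hsub : ∀ j, Subsingleton (Abelian.Ext S.X₂ (ModuleCat.of R N) (j + 1)) := fun j =>
    Abelian.Ext.subsingleton_of_projective _ _ j
  have h1 : Function.Injective (K760.ExtGr.pre S (ModuleCat.of R N) (t + 1 + 1)) := fun x y _ =>
    (hsub (t + 1)).elim x y
  have h2 : LinearMap.range (K760.ExtGr.pre S (ModuleCat.of R N) (t + 1)) = ⊥ := by
    rw [eq_bot_iff]
    rintro _ ⟨y, rfl⟩
    rw [(hsub t).elim y 0, map_zero]
    exact zero_mem _
  exact ⟨(Submodule.quotEquivOfEqBot _ h2).symm.trans (K760.ExtGr.cokerEquiv hS (ModuleCat.of R N) (t + 1) h1)⟩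

/-! ### the comparison map -/

variable {k : Type u} [Field k] {R : Type u} [CommRing R] [Algebra k R] {σ : Type u} [SetLike σ R]
  [AddSubgroupClass σ R] {𝒜 : ℤ → σ} [GradedRing 𝒜]
  {a : HomogeneousIdeal 𝒜} {n : ℕ}
  {I : StarInjRes 𝒜 𝒜}
  {K : Type u} [AddCommGroup K] [Module R K] [Module k K] [IsScalarTower k R K] {𝒦 : ℤ → AddSubgroup K}
  [DirectSum.Decomposition 𝒦] [SetLike.GradedSMul 𝒜 𝒦]

theorem ksmul_Hgr (halg : ∀ c : k, algebraMap k R c ∈ 𝒜 0) {M : Type u} [AddCommGroup M] [Module R M]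
    {ℳ : ℤ → AddSubgroup M} [DirectSum.Decomposition ℳ] [SetLike.GradedSMul 𝒜 ℳ] (EM : StarInjRes 𝒜 ℳ) (i : ℕ)
    [Module k (EM.H a i)] [IsScalarTower k R (EM.H a i)] (c : k) (m : ℤ) : ∀ x ∈ EM.Hgr a i m, c • x ∈ EM.Hgr a i m := by
  intro x hx
  rw [← algebraMap_smul R c x]
  exact (EM.Hcomp a i m).smul_mem ⟨algebraMap k R c, halg c⟩ hx

theorem finS_beta {W : Type u} [AddCommGroup W] [Module R W] [Module k W]
    [IsScalarTower k R W] {𝒲 : ℤ → AddSubgroup W} [Decomposition 𝒲]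
    {D : Type u} [AddCommGroup D] [Module R D] [Module k D] [IsScalarTower k R D] {𝒟 : ℤ → AddSubgroup D}
    [Decomposition 𝒟] {βD : D →ₗ[k] W →ₗ[k] k} (hD : GrSeg.IsGDual R 𝒲 𝒟 βD) (d : D) : FinS 𝒲 (βD d) := by
  obtain ⟨s, -, hs⟩ := exists_finset 𝒟 d
  classical
  refine ⟨s.image Neg.neg, fun m hm x hx => ?_⟩
  rw [beta_right hD hx d, hs (-m) fun h => hm ?_, map_zero, LinearMap.zero_apply]
  rw [Finset.mem_image]
  exact ⟨-m, h, neg_neg m⟩

section Theta

variable [Module k (I.H a n)] [IsScalarTower k R (I.H a n)] [DirectSum.Decomposition (I.Hgr a n)]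
  {βK : K →ₗ[k] I.H a n →ₗ[k] k}
  {M : Type u} [AddCommGroup M] [Module R M] {ℳ : ℤ → AddSubgroup M}
  [DirectSum.Decomposition ℳ] [SetLike.GradedSMul 𝒜 ℳ]
  {EM : StarInjRes 𝒜 ℳ} [Module k (EM.H a n)] [IsScalarTower k R (EM.H a n)]
  [DirectSum.Decomposition (EM.Hgr a n)]
  {W : Type u} [AddCommGroup W] [Module R W] [Module k W]
  [IsScalarTower k R W] {𝒲 : ℤ → AddSubgroup W} [Decomposition 𝒲]
  {D : Type u} [AddCommGroup D] [Module R D] [Module k D] [IsScalarTower k R D] {𝒟 : ℤ → AddSubgroup D}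
  [Decomposition 𝒟] {βD : D →ₗ[k] W →ₗ[k] k}

/-- for a graded module `W` embedded into `Hⁿ(M)`, the dual of `W` is a quotient of `Hom(M, K)` -/
theorem exists_theta [IsNoetherianRing R] [Module.Finite R M] (halg : ∀ c : k, algebraMap k R c ∈ 𝒜 0)
    (hK : GrSeg.IsGDual R (I.Hgr a n) 𝒦 βK) (hn : ringKrullDim R ≤ n)
    (hD : GrSeg.IsGDual R 𝒲 𝒟 βD) (δ : W →ₗ[R] EM.H a n)
    (hδ : ∀ j, ∀ x ∈ 𝒲 j, δ x ∈ EM.Hgr a n j) (hinj : Function.Injective δ) :
    ∃ Θ : (M →ₗ[R] K) →ₗ[R] D, Function.Surjective Θ ∧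
      ∀ ψ Λ, Rel βK EM ψ Λ → ∀ w, βD (Θ ψ) w = Λ (δ w) := by
  have h1 : ∀ ψ : M →ₗ[R] K, ∃ d : D, ∀ Λ, Rel βK EM ψ Λ → ∀ w, βD d w = Λ (δ w) := by
    intro ψ
    obtain ⟨Λ, hΛ, hr⟩ := exists_rel (EM := EM) hK hn ψ
    obtain ⟨s, hs⟩ := hΛ.comp (𝒲 := 𝒲) (δ.restrictScalars k) hδ
    obtain ⟨d, hd⟩ := exists_rep hD s _ hs
    refine ⟨d, fun Λ' hr' w => ?_⟩
    rw [hd, hr'.unique_right hn hr]
    rfl
  choose θ hθ using h1
  have huniq : ∀ ψ Λ d, Rel βK EM ψ Λ → (∀ w, βD d w = Λ (δ w)) → θ ψ = d := fun ψ Λ d hr hd =>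
    beta_ext hD fun w => by rw [hθ ψ Λ hr, hd]
  refine ⟨{ toFun := θ
            map_add' := fun ψ ψ' => ?_
            map_smul' := fun r ψ => ?_ }, fun d => ?_, hθ⟩
  · obtain ⟨Λ, -, hr⟩ := exists_rel (EM := EM) hK hn ψ
    obtain ⟨Λ', -, hr'⟩ := exists_rel (EM := EM) hK hn ψ'
    refine huniq _ _ _ (hr.add hr') fun w => ?_
    rw [map_add, LinearMap.add_apply, LinearMap.add_apply, hθ ψ Λ hr, hθ ψ' Λ' hr']
  · obtain ⟨Λ, -, hr⟩ := exists_rel (EM := EM) hK hn ψ
    refine huniq _ (Λ ∘ₗ (LinearMap.lsmul R (EM.H a n) r).restrictScalars k) _ (hr.smul hK r fun z => rfl)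
      fun w => ?_
    rw [RingHom.id_apply, hD.map_smul, hθ ψ Λ hr, map_smul]
    rfl
  · obtain ⟨Λ, hΛ, hΛ2⟩ := (finS_beta hD d).extend (ksmul_Hgr halg EM n) (δ.restrictScalars k) hδ
      (fun x hx => by
        have : x = 0 := hinj (by rw [map_zero]; exact hx)
        rw [this, map_zero])
    obtain ⟨ψ, hψ⟩ := rel_of (EM := EM) hK Λ hΛ
    exact ⟨ψ, huniq _ _ _ hψ fun w => (hΛ2 w).symm⟩

end Theta

/-! ### the induction -/

section Main

attribute [local instance] K761.Gr.freeDec K761.Gr.freeGSMul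

theorem free_van {X : Type u} [Fintype X] (deg : X → ℤ) (G : StarInjRes 𝒜 (K761.Gr.freeGr 𝒜 deg)) (i : ℕ)
    (hI : Subsingleton (I.H a i)) : Subsingleton (G.H a i) := by
  refine subsingleton_of_forall_eq 0 fun z => ?_
  rw [sum_coord deg I G a i z]
  refine Finset.sum_eq_zero fun x _ => ?_
  rw [Subsingleton.elim (coord deg I G a i x z) 0, map_zero]

variable [Module k (I.H a n)] [IsScalarTower k R (I.H a n)] [DirectSum.Decomposition (I.Hgr a n)]
  {βK : K →ₗ[k] I.H a n →ₗ[k] k}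
  {D : Type u} [AddCommGroup D] [Module R D] [Module k D] [IsScalarTower k R D] {𝒟 : ℤ → AddSubgroup D}
  [Decomposition 𝒟]
variable [IsNoetherianRing R] (halg : ∀ c : k, algebraMap k R c ∈ 𝒜 0)
  (hK : GrSeg.IsGDual R (I.Hgr a n) 𝒦 βK) (hn : ringKrullDim R ≤ n)
include halg hK hn

theorem zero_case {M : Type u} [AddCommGroup M] [Module R M] [Module.Finite R M] {ℳ : ℤ → AddSubgroup M}
    [DirectSum.Decomposition ℳ] [SetLike.GradedSMul 𝒜 ℳ]
    (EM : StarInjRes 𝒜 ℳ) [Module k (EM.H a n)] [IsScalarTower k R (EM.H a n)]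
    [DirectSum.Decomposition (EM.Hgr a n)] (βD : D →ₗ[k] EM.H a n →ₗ[k] k)
    (hD : GrSeg.IsGDual R (EM.Hgr a n) 𝒟 βD) :
    Nonempty (D ≃ₗ[R] Abelian.Ext.{u} (ModuleCat.of R M) (ModuleCat.of R K) 0) := by
  obtain ⟨Θ, hΘ, hΘ2⟩ := exists_theta (EM := EM) halg hK hn hD LinearMap.id (fun j x hx => hx)
    Function.injective_id
  have hinj : Function.Injective Θ := by
    rw [injective_iff_map_eq_zero]
    intro ψ hψ
    obtain ⟨Λ, -, hr⟩ := exists_rel (EM := EM) hK hn ψ
    refine hr.eq_zero hK (LinearMap.ext fun z => ?_)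
    have := hΘ2 ψ Λ hr z
    rw [hψ, map_zero] at this
    exact this.symm
  exact ⟨(LinearEquiv.ofBijective Θ ⟨hinj, hΘ⟩).symm.trans
    ((Abelian.Ext.linearEquiv₀ (R := R)).trans ModuleCat.homLinearEquiv).symm⟩

theorem one_case {i : ℕ} (hi : i + 1 = n) (hvan : Subsingleton (I.H a i))
    {M : Type u} [AddCommGroup M] [Module R M] [Module.Finite R M] {ℳ : ℤ → AddSubgroup M}
    [DirectSum.Decomposition ℳ] [SetLike.GradedSMul 𝒜 ℳ]
    (EM : StarInjRes 𝒜 ℳ) [Module k (EM.H a i)] [IsScalarTower k R (EM.H a i)]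
    [DirectSum.Decomposition (EM.Hgr a i)] (βD : D →ₗ[k] EM.H a i →ₗ[k] k)
    (hD : GrSeg.IsGDual R (EM.Hgr a i) 𝒟 βD) :
    Nonempty (D ≃ₗ[R] Abelian.Ext.{u} (ModuleCat.of R M) (ModuleCat.of R K) 1) := by
  subst hi
  obtain ⟨X, _, deg, v, hv, hsurj⟩ := exists_cover R ℳ
  obtain ⟨G⟩ := nonempty_res 𝒜 (K761.Gr.freeGr 𝒜 deg)
  letI := K761.Gr.subDec (K761.Gr.freeGr 𝒜 deg) (ker_homog (ℳ := ℳ) deg v hv)
  letI := K761.Gr.subGSMul (𝒜 := 𝒜) (K761.Gr.freeGr 𝒜 deg) (LinearMap.ker (Finsupp.linearCombination R v))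
  obtain ⟨P⟩ := nonempty_res 𝒜 (K761.Gr.subGr (K761.Gr.freeGr 𝒜 deg) (LinearMap.ker (Finsupp.linearCombination R v)))
  have hsub : IsGrHomDeg (K761.Gr.subGr (K761.Gr.freeGr 𝒜 deg) (LinearMap.ker (Finsupp.linearCombination R v)))
      (K761.Gr.freeGr 𝒜 deg) (LinearMap.ker (Finsupp.linearCombination R v)).subtype 0 := fun g f hf => by
    rw [add_zero]; exact hf
  obtain ⟨δ, hδ, -, -, hex1, hex2⟩ := les P G EM a hsub (cover_deg deg v hv) (Submodule.injective_subtype _)
    (LinearMap.exact_subtype_ker_map _) hsurj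
  letI : Module k (P.H a (i + 1)) := Module.compHom _ (algebraMap k R)
  haveI : IsScalarTower k R (P.H a (i + 1)) := ⟨fun c r z => by
    rw [Algebra.smul_def, mul_smul]
    rfl⟩
  letI : Module k (G.H a (i + 1)) := Module.compHom _ (algebraMap k R)
  haveI : IsScalarTower k R (G.H a (i + 1)) := ⟨fun c r z => by
    rw [Algebra.smul_def, mul_smul]
    rfl⟩
  letI := K963.Cat.Hdec P a (i + 1)
  letI := K963.Cat.Hdec G a (i + 1)
  have hvG : Subsingleton (G.H a i) := free_van deg G i hvan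
  have hinj : Function.Injective (δ i) := by
    rw [injective_iff_map_eq_zero]
    intro w hw
    obtain ⟨y, rfl⟩ := (hex1 i w).1 hw
    rw [Subsingleton.elim y 0, map_zero]
  obtain ⟨Θ, hΘ, hΘ2⟩ := exists_theta (EM := P) halg hK hn hD (δ i)
    (fun j x hx => by
      have := hδ i j x hx
      rwa [sub_zero, sub_zero] at this) hinj
  have hker : LinearMap.ker Θ =
      LinearMap.range (LinearMap.lcomp R K (LinearMap.ker (Finsupp.linearCombination R v)).subtype) := by
    ext ψ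
    rw [LinearMap.mem_ker, LinearMap.mem_range]
    constructor
    · intro hψ
      obtain ⟨Λ, hΛ, hr⟩ := exists_rel (EM := P) hK hn ψ
      obtain ⟨Λ', hΛ', hΛ2'⟩ := hΛ.extend (ksmul_Hgr halg G (i + 1))
        ((Hmap P G a (i + 1) _ hsub).restrictScalars k) (fun m x hx => by
          have := Hmap_mem P G a (i + 1) hsub hx
          rw [add_zero] at this
          exact this) (fun x hx => by
            obtain ⟨y, rfl⟩ := (hex2 i x).1 hx
            rw [← hΘ2 ψ Λ hr y, hψ, map_zero, LinearMap.zero_apply])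
      obtain ⟨ψ', hr'⟩ := rel_of (EM := G) hK Λ' hΛ'
      refine ⟨ψ', ?_⟩
      have h3 := hr'.comp (EN := P) hsub
      have h4 : Λ' ∘ₗ (Hmap P G a (i + 1) _ hsub).restrictScalars k = Λ := LinearMap.ext hΛ2'
      rw [h4] at h3
      exact h3.unique_left hK hr
    · rintro ⟨ψ', rfl⟩
      obtain ⟨Λ', hΛ', hr'⟩ := exists_rel (EM := G) hK hn ψ'
      refine beta_inj hD fun w => ?_
      refine (hΘ2 _ _ (hr'.comp (EN := P) hsub) w).trans ?_
      have : Hmap P G a (i + 1) _ hsub (δ i w) = 0 := (hex2 i _).2 ⟨w, rfl⟩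
      change Λ' (Hmap P G a (i + 1) _ hsub (δ i w)) = 0
      rw [this, map_zero]
  obtain ⟨e⟩ := K681.ExtOne.nonempty_quot_equiv_ext_one (N := K)
    (K := ↥(LinearMap.ker (Finsupp.linearCombination R v)))
    (LinearMap.ker (Finsupp.linearCombination R v)).subtype (Finsupp.linearCombination R v)
    (Submodule.injective_subtype _) (LinearMap.exact_subtype_ker_map (Finsupp.linearCombination R v)) hsurj
  rw [← hker] at e
  exact ⟨(Θ.quotKerEquivOfSurjective hΘ).symm.trans e⟩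

/-- **Graded local duality**: a graded dual of `H^{n-t}(M)` is `Ext^t(M, K)`. -/
theorem main (hvan : ∀ i < n, Subsingleton (I.H a i)) (t : ℕ) : ∀ (i : ℕ) (hi : i + t = n)
    {M : Type u} [AddCommGroup M] [Module R M] [Module.Finite R M] {ℳ : ℤ → AddSubgroup M}
    [DirectSum.Decomposition ℳ] [SetLike.GradedSMul 𝒜 ℳ]
    (EM : StarInjRes 𝒜 ℳ) [Module k (EM.H a i)] [IsScalarTower k R (EM.H a i)]
    [DirectSum.Decomposition (EM.Hgr a i)] (βD : D →ₗ[k] EM.H a i →ₗ[k] k)
    (hD : GrSeg.IsGDual R (EM.Hgr a i) 𝒟 βD),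
    Nonempty (D ≃ₗ[R] Abelian.Ext.{u} (ModuleCat.of R M) (ModuleCat.of R K) t) := by
  induction t with
  | zero =>
    intro i hi
    rw [add_zero] at hi
    subst hi
    intro M _ _ _ ℳ _ _ EM _ _ _ βD hD
    exact zero_case halg hK hn EM βD hD
  | succ t ih =>
    intro i hi M _ _ _ ℳ _ _ EM _ _ _ βD hD
    rcases t with _ | t
    · exact one_case halg hK hn hi (hvan i (by omega)) EM βD hD
    obtain ⟨X, _, deg, v, hv, hsurj⟩ := exists_cover R ℳ
    obtain ⟨G⟩ := nonempty_res 𝒜 (K761.Gr.freeGr 𝒜 deg)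
    letI := K761.Gr.subDec (K761.Gr.freeGr 𝒜 deg) (ker_homog (ℳ := ℳ) deg v hv)
    letI := K761.Gr.subGSMul (𝒜 := 𝒜) (K761.Gr.freeGr 𝒜 deg) (LinearMap.ker (Finsupp.linearCombination R v))
    obtain ⟨P⟩ := nonempty_res 𝒜 (K761.Gr.subGr (K761.Gr.freeGr 𝒜 deg) (LinearMap.ker (Finsupp.linearCombination R v)))
    have hsub : IsGrHomDeg (K761.Gr.subGr (K761.Gr.freeGr 𝒜 deg) (LinearMap.ker (Finsupp.linearCombination R v)))
        (K761.Gr.freeGr 𝒜 deg) (LinearMap.ker (Finsupp.linearCombination R v)).subtype 0 := fun g f hf => by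
      rw [add_zero]; exact hf
    obtain ⟨δ, hδ, -, -, hex1, hex2⟩ := les P G EM a hsub (cover_deg deg v hv) (Submodule.injective_subtype _)
      (LinearMap.exact_subtype_ker_map _) hsurj
    letI : Module k (P.H a (i + 1)) := Module.compHom _ (algebraMap k R)
    haveI : IsScalarTower k R (P.H a (i + 1)) := ⟨fun c r z => by
      rw [Algebra.smul_def, mul_smul]
      rfl⟩
    letI := K963.Cat.Hdec P a (i + 1)
    have hvG : Subsingleton (G.H a i) := free_van deg G i (hvan i (by omega))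
    have hvG1 : Subsingleton (G.H a (i + 1)) := free_van deg G (i + 1) (hvan (i + 1) (by omega))
    have hinj : Function.Injective (δ i) := by
      rw [injective_iff_map_eq_zero]
      intro w hw
      obtain ⟨y, rfl⟩ := (hex1 i w).1 hw
      rw [Subsingleton.elim y 0, map_zero]
    have hδ' : ∀ j, ∀ x ∈ EM.Hgr a i j, δ i x ∈ P.Hgr a (i + 1) j := fun j x hx => by
      have := hδ i j x hx
      rwa [sub_zero, sub_zero] at this
    have hs : Function.Surjective (δ i) := fun y => (hex2 i y).1 (Subsingleton.elim _ _)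
    let e := LinearEquiv.ofBijective (δ i) ⟨hinj, hs⟩
    have he : ∀ y, δ i (e.symm y) = y := fun y => e.apply_symm_apply y
    have hcomp : ∀ (m : ℤ) (x : EM.H a i), cp (P.Hgr a (i + 1)) m (δ i x) = δ i (cp (EM.Hgr a i) m x) := by
      intro m x
      induction x using hom_induction (EM.Hgr a i) with
      | h0 => simp
      | hadd x y hx hy => rw [map_add, map_add, hx, hy, map_add, map_add]
      | hh j x hx =>
        rw [cp_of_mem (EM.Hgr a i) hx, cp_of_mem (P.Hgr a (i + 1)) (hδ' j x hx)]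
        split
        · rfl
        · rw [map_zero]
    obtain ⟨β', hβ'⟩ := transport (RingEquiv.refl k) (f := RingHom.id R) (𝒲 := P.Hgr a (i + 1)) (fun c => rfl)
      (fun r d => rfl) hD e.symm.toLinearMap e.symm.bijective (fun j y => by
        rw [LinearEquiv.coe_coe]
        constructor
        · intro hy
          have h1 : cp (EM.Hgr a i) j (e.symm y) = e.symm y := by
            apply hinj
            rw [← hcomp, he, cp_same _ hy]
          rw [← h1]
          exact cp_mem _ _ _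
        · intro hy
          rw [← he y]
          exact hδ' j _ hy)
    obtain ⟨e1⟩ := ih (i + 1) (by omega) P β' hβ'
    obtain ⟨e2⟩ := ext_shift (N := K)
      (Z := ↥(LinearMap.ker (Finsupp.linearCombination R v)))
      (LinearMap.ker (Finsupp.linearCombination R v)).subtype (Finsupp.linearCombination R v)
      (Submodule.injective_subtype _) (LinearMap.exact_subtype_ker_map (Finsupp.linearCombination R v)) hsurj t
    exact ⟨e1.trans e2⟩

end Main

end K993.ExtDual
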