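import Groth.Agent.GrLC.K963.LES
import Groth.Agent.GrLC.K761.Free

/-!
# The canonical map `M → Hom(Hⁱ(R), Hⁱ(M))`
-/

set_option autoImplicit false
set_option linter.unusedSectionVars false
universe u

open GrLC DirectSum K963.Iface

namespace K993.Mu

variable {ι : Type} [AddCommGroup ι] [DecidableEq ι]
variable {R : Type u} [CommRing R] {σ : Type u} [SetLike σ R] [AddSubgroupClass σ R]
variable {𝒜 : ι → σ} [GradedRing 𝒜]
variable {M : Type u} [AddCommGroup M] [Module R M] {τ : Type u} [SetLike τ M] [AddSubgroupClass τ M]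
  {ℳ : ι → τ} [DirectSum.Decomposition ℳ] [SetLike.GradedSMul 𝒜 ℳ]
variable {N : Type u} [AddCommGroup N] [Module R N] {τN : Type u} [SetLike τN N] [AddSubgroupClass τN N]
  {𝒩 : ι → τN} [DirectSum.Decomposition 𝒩] [SetLike.GradedSMul 𝒜 𝒩]

theorem isGrHomDeg_toSpan {e : ι} {x : M} (hx : x ∈ ℳ e) :
    IsGrHomDeg 𝒜 ℳ (LinearMap.toSpanSingleton R M x) e := fun _ _ hr => K761.Gr.smul_mem hr hx

variable (E : StarInjRes 𝒜 𝒜) (F : StarInjRes 𝒜 ℳ) (G : StarInjRes 𝒜 𝒩) (a : HomogeneousIdeal 𝒜) (i : ℕ)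

theorem Hmap_zero {P : Type u} [AddCommGroup P] [Module R P] {τP : Type u} [SetLike τP P] [AddSubgroupClass τP P]
    {𝒬 : ι → τP} [DirectSum.Decomposition 𝒬] [SetLike.GradedSMul 𝒜 𝒬] (K : StarInjRes 𝒜 𝒬)
    {d : ι} (h : IsGrHomDeg 𝒬 ℳ (0 : P →ₗ[R] M) d) :
    Hmap K F a i 0 h = 0 := by
  have h2 : IsGrHomDeg 𝒬 ℳ (0 + 0 : P →ₗ[R] M) d := by rwa [add_zero]
  refine LinearMap.ext fun x => ?_
  have h1 := Hmap_add K F a i h h h2 x
  rw [Hmap_congr K F a i h2 h (add_zero 0) rfl] at h1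
  rw [LinearMap.zero_apply]
  exact left_eq_add.1 h1

theorem Hmap_sum {P : Type u} [AddCommGroup P] [Module R P] {τP : Type u} [SetLike τP P] [AddSubgroupClass τP P]
    {𝒬 : ι → τP} [DirectSum.Decomposition 𝒬] [SetLike.GradedSMul 𝒜 𝒬] (K : StarInjRes 𝒜 𝒬)
    {κ : Type*} (s : Finset κ) (f : κ → P →ₗ[R] M) {d : ι} (h : ∀ j, IsGrHomDeg 𝒬 ℳ (f j) d)
    (hs : IsGrHomDeg 𝒬 ℳ (∑ j ∈ s, f j) d) (x : K.H a i) :
    Hmap K F a i (∑ j ∈ s, f j) hs x = ∑ j ∈ s, Hmap K F a i (f j) (h j) x := by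
  classical
  induction s using Finset.induction_on with
  | empty =>
    rw [Hmap_congr K F a i hs (f' := 0) (d' := d) (fun _ _ _ => zero_mem _) Finset.sum_empty rfl,
      Hmap_zero, Finset.sum_empty]
    rfl
  | insert j s hj ih =>
    have hs' : IsGrHomDeg 𝒬 ℳ (∑ j ∈ s, f j) d := fun g m hm => by
      rw [LinearMap.sum_apply]
      exact sum_mem fun j _ => h j g m hm
    have hs'' : IsGrHomDeg 𝒬 ℳ (f j + ∑ j ∈ s, f j) d := fun g m hm => add_mem (h j g m hm) (hs' g m hm)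
    rw [Hmap_congr K F a i hs hs'' (Finset.sum_insert hj) rfl, Hmap_add K F a i (h j) hs' hs'',
      Finset.sum_insert hj, ih hs']

/-- on a piece -/
noncomputable def muPiece (e : ι) : ℳ e →+ (E.H a i →ₗ[R] F.H a i) where
  toFun x := Hmap E F a i (LinearMap.toSpanSingleton R M x) (isGrHomDeg_toSpan x.2)
  map_zero' := by
    rw [Hmap_congr E F a i _ (f' := 0) (d' := e) (fun _ _ _ => zero_mem _)
      (by ext; simp) rfl, Hmap_zero]
  map_add' x y := by
    have h : IsGrHomDeg 𝒜 ℳ (LinearMap.toSpanSingleton R M (x : M) + LinearMap.toSpanSingleton R M (y : M)) e :=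
      fun g m hm => add_mem (isGrHomDeg_toSpan x.2 g m hm) (isGrHomDeg_toSpan y.2 g m hm)
    rw [Hmap_congr E F a i _ h (by ext; simp) rfl]
    refine LinearMap.ext fun z => ?_
    rw [Hmap_add E F a i (isGrHomDeg_toSpan x.2) (isGrHomDeg_toSpan y.2) h]
    rfl

/-- additive version -/
noncomputable def muAdd : M →+ (E.H a i →ₗ[R] F.H a i) :=
  (DirectSum.toAddMonoid (muPiece E F a i)).comp (decomposeAddEquiv ℳ).toAddMonoidHom

theorem muAdd_of_mem {e : ι} {x : M} (hx : x ∈ ℳ e) :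
    muAdd E F a i x = Hmap E F a i (LinearMap.toSpanSingleton R M x) (isGrHomDeg_toSpan hx) := by
  have : decompose ℳ x = DirectSum.of _ e ⟨x, hx⟩ := decompose_of_mem ℳ hx
  simp only [muAdd, AddMonoidHom.comp_apply, AddEquiv.coe_toAddMonoidHom]
  change DirectSum.toAddMonoid (muPiece E F a i) (decompose ℳ x) = _
  rw [this, DirectSum.toAddMonoid_of]
  rfl

/-- the canonical map -/
noncomputable def mu : M →ₗ[R] (E.H a i →ₗ[R] F.H a i) where
  toFun := muAdd E F a i
  map_add' := map_add _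
  map_smul' r x := by
    rw [RingHom.id_apply]
    induction x using K761.Gr.induction ℳ with
    | h0 => simp
    | hadd x y hx hy => rw [smul_add, map_add, hx, hy, map_add, smul_add]
    | hom e x hx =>
      induction r using K761.Gr.induction 𝒜 with
      | h0 => simp
      | hadd r s hr hs => rw [add_smul, map_add, hr, hs, add_smul]
      | hom d r hr =>
        have h1 : IsGrHomDeg 𝒜 ℳ ((r • (LinearMap.id : M →ₗ[R] M)) ∘ₗ LinearMap.toSpanSingleton R M x) (e + d) := by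
          intro g y hy
          have := isGrHomDeg_smul_id (ℳ := ℳ) hr _ _ (isGrHomDeg_toSpan hx g y hy)
          rwa [add_assoc] at this
        rw [muAdd_of_mem E F a i (K761.Gr.smul_mem hr hx), muAdd_of_mem E F a i hx,
          Hmap_congr E F a i _ h1 (by ext; simp) (add_comm d e)]
        refine LinearMap.ext fun z => ?_
        rw [Hmap_comp E F F a i (isGrHomDeg_toSpan hx) (isGrHomDeg_smul_id hr) h1,
          Hmap_smul_id F a i hr]
        rfl

theorem mu_of_mem {e : ι} {x : M} (hx : x ∈ ℳ e) :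
    mu E F a i x = Hmap E F a i (LinearMap.toSpanSingleton R M x) (isGrHomDeg_toSpan hx) :=
  muAdd_of_mem E F a i hx

theorem mu_mem {e g : ι} {x : M} (hx : x ∈ ℳ e) {z : E.H a i} (hz : z ∈ E.Hcomp a i g) :
    mu E F a i x z ∈ F.Hcomp a i (g + e) := by
  rw [mu_of_mem E F a i hx]
  exact Hmap_mem E F a i _ hz

theorem Hmap_mu {f : M →ₗ[R] N} {d : ι} (hf : IsGrHomDeg ℳ 𝒩 f d) (x : M) (z : E.H a i) :
    Hmap F G a i f hf (mu E F a i x z) = mu E G a i (f x) z := by
  induction x using K761.Gr.induction ℳ with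
  | h0 => simp
  | hadd x y hx hy =>
    rw [map_add, LinearMap.add_apply, map_add, hx, hy, map_add, map_add, LinearMap.add_apply]
  | hom e x hx =>
    have h1 : IsGrHomDeg 𝒜 𝒩 (f ∘ₗ LinearMap.toSpanSingleton R M x) (e + d) := by
      intro g y hy
      have := hf _ _ (isGrHomDeg_toSpan hx g y hy)
      rwa [add_assoc] at this
    rw [mu_of_mem E F a i hx, mu_of_mem E G a i (hf e x hx), ← Hmap_comp E F G a i (isGrHomDeg_toSpan hx) hf h1,
      Hmap_congr E G a i h1 (isGrHomDeg_toSpan (hf e x hx)) (by ext; simp) rfl]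

theorem mu_self (r : R) (z : E.H a i) : mu E E a i r z = r • z := by
  induction r using K761.Gr.induction 𝒜 with
  | h0 => simp
  | hadd x y hx hy => rw [map_add, LinearMap.add_apply, hx, hy, add_smul]
  | hom e r hr =>
    rw [mu_of_mem E E a i hr, Hmap_congr E E a i _ (isGrHomDeg_smul_id (ℳ := 𝒜) hr) (by ext; simp) rfl,
      Hmap_smul_id E a i hr]

end K993.Mu
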