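import Groth.Agent.GrLC.K993.TopH
import Groth.Agent.Localalg.LCIface

/-!
# Top graded local cohomology: generators and relations
-/

set_option autoImplicit false
set_option linter.unusedSectionVars false
set_option linter.style.haveILetI false
universe u

open GrLC DirectSum K963.Iface K761.Gr K993.Mu K993.TopH

namespace K993.TopGen

variable {ι : Type} [AddCommGroup ι] [DecidableEq ι]
variable {R : Type u} [CommRing R] {σ : Type u} [SetLike σ R] [AddSubgroupClass σ R]
variable {𝒜 : ι → σ} [GradedRing 𝒜]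
variable {M : Type u} [AddCommGroup M] [Module R M] {τ : Type u} [SetLike τ M] [AddSubgroupClass τ M]
  {ℳ : ι → τ} [DirectSum.Decomposition ℳ] [SetLike.GradedSMul 𝒜 ℳ]

theorem exists_cover (R : Type u) [CommRing R] {M : Type u} [AddCommGroup M] [Module R M] {τ : Type u} [SetLike τ M]
    [AddSubgroupClass τ M] (ℳ : ι → τ) [DirectSum.Decomposition ℳ] [Module.Finite R M] :
    ∃ (X : Type u) (_ : Fintype X) (deg : X → ι) (v : X → M),
    (∀ x, v x ∈ ℳ (deg x)) ∧ Function.Surjective (Finsupp.linearCombination R v) := by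
  obtain ⟨S, hS, hspan⟩ := exists_homogeneous_span R ℳ
  refine ⟨S, inferInstance, fun s => (hS s s.2).choose, fun s => s, fun s => (hS s s.2).choose_spec, ?_⟩
  rw [← LinearMap.range_eq_top, Finsupp.range_linearCombination]
  simpa using hspan

/-- vanishing above the dimension -/
theorem subsingleton_H [IsNoetherianRing R] [Module.Finite R M] (F : StarInjRes 𝒜 ℳ) (a : HomogeneousIdeal 𝒜)
    {n : ℕ} (hn : ringKrullDim R ≤ n) : Subsingleton (F.H a (n + 1)) := by
  obtain ⟨e⟩ := K759.AcycInj.nonempty_equiv F a (n + 1)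
  have : Subsingleton (LocCoh.H a.toIdeal (n + 1) M) := by
    refine Groth.Agent.Localalg.LCIface.subsingleton_of_supportDim_lt a.toIdeal M (n + 1) ?_
    refine lt_of_le_of_lt ((Module.supportDim_le_ringKrullDim R M).trans hn) ?_
    exact_mod_cast Nat.lt_succ_self n
  exact e.toEquiv.subsingleton

attribute [local instance] freeDec freeGSMul

section

variable [IsNoetherianRing R] {X : Type u} [Fintype X] (deg : X → ι) (v : X → M) (hv : ∀ x, v x ∈ ℳ (deg x))
  (hsurj : Function.Surjective (Finsupp.linearCombination R v))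
  (E : StarInjRes 𝒜 𝒜) (G : StarInjRes 𝒜 (freeGr 𝒜 deg)) (F : StarInjRes 𝒜 ℳ) (a : HomogeneousIdeal 𝒜)
  {n : ℕ} (hn : ringKrullDim R ≤ n)

include hv in
theorem cover_deg : IsGrHomDeg (freeGr 𝒜 deg) ℳ (Finsupp.linearCombination R v) 0 := fun g f hf => by
  rw [add_zero]
  exact linearCombination_isGrHom ℳ deg v hv g f hf

include hv in
theorem ker_homog : (LinearMap.ker (Finsupp.linearCombination R v)).IsHomogeneous (freeGr 𝒜 deg) :=
  ker_isHomogeneous (linearCombination_isGrHom ℳ deg v hv)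

include hsurj hn in
/-- `Hⁿ(F₀) → Hⁿ(M)` is surjective, and its kernel comes from the kernel of `F₀ → M` -/
theorem surj_and_exact : Function.Surjective (Hmap G F a n (Finsupp.linearCombination R v) (cover_deg deg v hv)) ∧
    letI := subDec (freeGr 𝒜 deg) (ker_homog deg v hv)
    letI := subGSMul (𝒜 := 𝒜) (freeGr 𝒜 deg) (LinearMap.ker (Finsupp.linearCombination R v))
    ∃ (P : StarInjRes 𝒜 (subGr (freeGr 𝒜 deg) (LinearMap.ker (Finsupp.linearCombination R v))))
      (hi : IsGrHomDeg (subGr (freeGr 𝒜 deg) (LinearMap.ker (Finsupp.linearCombination R v))) (freeGr 𝒜 deg)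
        (LinearMap.ker (Finsupp.linearCombination R v)).subtype 0),
      ∀ z : G.H a n, Hmap G F a n (Finsupp.linearCombination R v) (cover_deg deg v hv) z = 0 →
        ∃ y : P.H a n, Hmap P G a n (LinearMap.ker (Finsupp.linearCombination R v)).subtype hi y = z := by
  letI := subDec (freeGr 𝒜 deg) (ker_homog deg v hv)
  letI := subGSMul (𝒜 := 𝒜) (freeGr 𝒜 deg) (LinearMap.ker (Finsupp.linearCombination R v))
  obtain ⟨P⟩ := nonempty_res 𝒜 (subGr (freeGr 𝒜 deg) (LinearMap.ker (Finsupp.linearCombination R v)))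
  have hi : IsGrHomDeg (subGr (freeGr 𝒜 deg) (LinearMap.ker (Finsupp.linearCombination R v))) (freeGr 𝒜 deg)
        (LinearMap.ker (Finsupp.linearCombination R v)).subtype 0 := fun g f hf => by
    rw [add_zero]; exact hf
  obtain ⟨δ, -, -, h1, h2, -⟩ := les P G F a hi (cover_deg deg v hv) (Submodule.injective_subtype _)
    (LinearMap.exact_subtype_ker_map _) hsurj
  have h3 : Subsingleton (P.H a (n + 1)) := subsingleton_H P a hn
  refine ⟨fun z => (h2 n z).1 (Subsingleton.elim _ _), P, hi, fun z hz => (h1 n z).1 hz⟩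

end

/-- `Hⁿ(M)` is generated by the `μ(x, h)` -/
theorem span_mu [IsNoetherianRing R] [Module.Finite R M] (E : StarInjRes 𝒜 𝒜) (F : StarInjRes 𝒜 ℳ)
    (a : HomogeneousIdeal 𝒜) {n : ℕ} (hn : ringKrullDim R ≤ n) (z : F.H a n) :
    z ∈ Submodule.span R {w | ∃ (x : M) (h : E.H a n), w = mu E F a n x h} := by
  obtain ⟨X, _, deg, v, hv, hsurj⟩ := exists_cover R ℳ
  obtain ⟨G⟩ := nonempty_res 𝒜 (freeGr 𝒜 deg)
  obtain ⟨w, rfl⟩ := (surj_and_exact deg v hv hsurj G F a hn).1 z
  rw [sum_coord deg E G a n w, map_sum]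
  refine Submodule.sum_mem _ fun x _ => Submodule.subset_span ⟨v x, coord deg E G a n x w, ?_⟩
  rw [Hmap_mu, Finsupp.linearCombination_single, one_smul]

section

variable [IsNoetherianRing R] {X : Type u} [Fintype X] (deg : X → ι) (v : X → M) (hv : ∀ x, v x ∈ ℳ (deg x))
  (hsurj : Function.Surjective (Finsupp.linearCombination R v))
  (E : StarInjRes 𝒜 𝒜) (G : StarInjRes 𝒜 (freeGr 𝒜 deg)) (F : StarInjRes 𝒜 ℳ) (a : HomogeneousIdeal 𝒜)
  {n : ℕ} (hn : ringKrullDim R ≤ n)

include hsurj hn in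
/-- relations -/
theorem ker_mu (z : G.H a n)
    (hz : Hmap G F a n (Finsupp.linearCombination R v) (cover_deg deg v hv) z = 0) :
    z ∈ Submodule.span R {w | ∃ (y : X →₀ R) (h : E.H a n), Finsupp.linearCombination R v y = 0 ∧
      w = mu E G a n y h} := by
  obtain ⟨P, hi, hP⟩ := (surj_and_exact deg v hv hsurj G F a hn).2
  obtain ⟨y, rfl⟩ := hP z hz
  letI := subDec (freeGr 𝒜 deg) (ker_homog deg v hv)
  letI := subGSMul (𝒜 := 𝒜) (freeGr 𝒜 deg) (LinearMap.ker (Finsupp.linearCombination R v))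
  have h1 := span_mu E P a hn y
  have h2 := Submodule.mem_map_of_mem (f := Hmap P G a n
    (LinearMap.ker (Finsupp.linearCombination R v)).subtype hi) h1
  rw [Submodule.map_span] at h2
  refine Submodule.span_mono ?_ h2
  rintro _ ⟨_, ⟨x, h, rfl⟩, rfl⟩
  exact ⟨x, h, x.2, Hmap_mu E P G a n hi x h⟩

end

end K993.TopGen
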