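import Groth.Agent.GrLC.K993.Mu
import Groth.Agent.GrLC.K759.AcycInj

/-!
# Top graded local cohomology is right exact: generators and relations
-/

set_option autoImplicit false
set_option linter.unusedSectionVars false
set_option linter.style.haveILetI false
universe u

open GrLC DirectSum K963.Iface K761.Gr K993.Mu

namespace K993.TopH

variable {ι : Type} [AddCommGroup ι] [DecidableEq ι]
variable {R : Type u} [CommRing R] {σ : Type u} [SetLike σ R] [AddSubgroupClass σ R]
variable {𝒜 : ι → σ} [GradedRing 𝒜]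

section Free

variable {X : Type u} (deg : X → ι)

attribute [local instance] freeDec freeGSMul

theorem lapply_deg (x : X) : IsGrHomDeg (freeGr 𝒜 deg) 𝒜 (Finsupp.lapply (R := R) x) (-deg x) := by
  intro g f hf
  have := hf x
  rwa [sub_eq_add_neg] at this

theorem single_mem (x : X) : (Finsupp.single x 1 : X →₀ R) ∈ freeGr 𝒜 deg (deg x) := by
  classical
  intro y
  rw [Finsupp.single_apply]
  split
  · rename_i h
    subst h
    rw [sub_self]
    exact SetLike.GradedOne.one_mem
  · exact zero_mem _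

variable (E : StarInjRes 𝒜 𝒜) (G : StarInjRes 𝒜 (freeGr 𝒜 deg)) (a : HomogeneousIdeal 𝒜) (i : ℕ)

/-- coordinates on the cohomology of a free module -/
noncomputable def coord (x : X) : G.H a i →ₗ[R] E.H a i :=
  Hmap G E a i (Finsupp.lapply x) (lapply_deg deg x)

theorem coord_mu (x : X) (f : X →₀ R) (z : E.H a i) : coord deg E G a i x (mu E G a i f z) = f x • z := by
  rw [coord, Hmap_mu, mu_self]
  rfl

theorem coord_mem (x : X) {g : ι} {z : G.H a i} (hz : z ∈ G.Hcomp a i g) :
    coord deg E G a i x z ∈ E.Hcomp a i (g + -deg x) := Hmap_mem G E a i _ hz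

theorem sum_coord [Fintype X] (z : G.H a i) :
    z = ∑ x : X, mu E G a i (Finsupp.single x 1) (coord deg E G a i x z) := by
  classical
  have hc : ∀ x : X, IsGrHomDeg (freeGr 𝒜 deg) (freeGr 𝒜 deg)
      (LinearMap.toSpanSingleton R _ (Finsupp.single x 1 : X →₀ R) ∘ₗ Finsupp.lapply x) 0 := by
    intro x g f hf
    have := isGrHomDeg_toSpan (single_mem (𝒜 := 𝒜) deg x) _ _ (lapply_deg deg x g f hf)
    rwa [add_assoc, neg_add_cancel] at this
  have hs : IsGrHomDeg (freeGr 𝒜 deg) (freeGr 𝒜 deg) (∑ x : X,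
      (LinearMap.toSpanSingleton R _ (Finsupp.single x 1 : X →₀ R) ∘ₗ Finsupp.lapply x)) 0 := fun g m hm => by
    rw [LinearMap.sum_apply]
    exact sum_mem fun j _ => hc j g m hm
  have hid : (∑ x : X, (LinearMap.toSpanSingleton R _ (Finsupp.single x 1 : X →₀ R) ∘ₗ Finsupp.lapply x)) =
      (LinearMap.id : (X →₀ R) →ₗ[R] (X →₀ R)) := by
    refine LinearMap.ext fun f => ?_
    rw [LinearMap.sum_apply, LinearMap.id_apply]
    conv_rhs => rw [← Finsupp.univ_sum_single f]
    refine Finset.sum_congr rfl fun x _ => ?_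
    simp
  conv_lhs => rw [← Hmap_id G a i isGrHomDeg_id z,
    Hmap_congr G G a i isGrHomDeg_id hs hid.symm rfl, Hmap_sum G a i G _ _ hc hs]
  refine Finset.sum_congr rfl fun x _ => ?_
  have hc' : IsGrHomDeg (freeGr 𝒜 deg) (freeGr 𝒜 deg)
      (LinearMap.toSpanSingleton R _ (Finsupp.single x 1 : X →₀ R) ∘ₗ Finsupp.lapply x) (-deg x + deg x) := by
    rw [neg_add_cancel]; exact hc x
  rw [Hmap_congr G G a i (hc x) hc' rfl (neg_add_cancel _).symm,
    Hmap_comp G E G a i (lapply_deg deg x) (isGrHomDeg_toSpan (single_mem deg x)) hc',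
    mu_of_mem E G a i (single_mem deg x)]
  rfl

end Free

end K993.TopH
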