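import Groth.Agent.GrLC.K993.TopGen
import Groth.Agent.GrDual.K993.Basic

/-!
# Functionals on top graded local cohomology and maps into a graded dual of `Hⁿ(R)`
-/

set_option autoImplicit false
set_option linter.unusedSectionVars false
set_option linter.style.haveILetI false
universe u

open GrLC DirectSum K963.Iface K993.Mu K993.TopH K993.TopGen K993.Basic

namespace K993.TopRel

section FinS

variable {k : Type u} [Field k] {W : Type u} [AddCommGroup W] [Module k W] (𝒲 : ℤ → AddSubgroup W)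

/-- a functional with finitely many nonzero homogeneous components -/
def FinS (Λ : W →ₗ[k] k) : Prop := ∃ s : Finset ℤ, ∀ m ∉ s, ∀ x ∈ 𝒲 m, Λ x = 0

variable {𝒲}

theorem FinS.zero : FinS 𝒲 (0 : W →ₗ[k] k) := ⟨∅, fun _ _ _ _ => rfl⟩

theorem FinS.add {Λ Λ' : W →ₗ[k] k} (h : FinS 𝒲 Λ) (h' : FinS 𝒲 Λ') : FinS 𝒲 (Λ + Λ') := by
  classical
  obtain ⟨s, hs⟩ := h
  obtain ⟨s', hs'⟩ := h'
  refine ⟨s ∪ s', fun m hm x hx => ?_⟩
  rw [Finset.mem_union, not_or] at hm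
  rw [LinearMap.add_apply, hs m hm.1 x hx, hs' m hm.2 x hx, add_zero]

variable {W' : Type u} [AddCommGroup W'] [Module k W'] {𝒲' : ℤ → AddSubgroup W'}

theorem FinS.comp {Λ : W' →ₗ[k] k} (h : FinS 𝒲' Λ) (f : W →ₗ[k] W') (hf : ∀ m, ∀ x ∈ 𝒲 m, f x ∈ 𝒲' m) :
    FinS 𝒲 (Λ ∘ₗ f) := by
  obtain ⟨s, hs⟩ := h
  exact ⟨s, fun m hm x hx => hs m hm _ (hf m x hx)⟩

/-- the sum of finitely many components, as a linear map -/
theorem exists_trunc [Decomposition 𝒲] (hk : ∀ (c : k) (m : ℤ), ∀ x ∈ 𝒲 m, c • x ∈ 𝒲 m) (s : Finset ℤ) :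
    ∃ T : W →ₗ[k] W, ∀ x, T x = ∑ m ∈ s, cp 𝒲 m x := by
  have h1 : ∀ (m : ℤ) (c : k) (x : W), cp 𝒲 m (c • x) = c • cp 𝒲 m x := by
    intro m c x
    induction x using hom_induction 𝒲 with
    | h0 => simp
    | hadd x y hx hy => rw [smul_add, map_add, hx, hy, map_add, smul_add]
    | hh j x hx =>
      rw [cp_of_mem 𝒲 hx, cp_of_mem 𝒲 (hk c j x hx)]
      split
      · rfl
      · rw [smul_zero]
  exact ⟨{ toFun := fun x => ∑ m ∈ s, cp 𝒲 m x
           map_add' := fun x y => by simp only [map_add, Finset.sum_add_distrib]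
           map_smul' := fun c x => by simp only [h1, RingHom.id_apply, Finset.smul_sum] }, fun _ => rfl⟩

/-- extension of finitely supported functionals along a homogeneous map -/
theorem FinS.extend [Decomposition 𝒲] [Decomposition 𝒲'] (hk : ∀ (c : k) (m : ℤ), ∀ x ∈ 𝒲' m, c • x ∈ 𝒲' m)
    {Λ : W →ₗ[k] k} (h : FinS 𝒲 Λ) (f : W →ₗ[k] W') (hf : ∀ m, ∀ x ∈ 𝒲 m, f x ∈ 𝒲' m)
    (hker : ∀ x, f x = 0 → Λ x = 0) : ∃ Λ' : W' →ₗ[k] k, FinS 𝒲' Λ' ∧ ∀ x, Λ' (f x) = Λ x := by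
  obtain ⟨s, hs⟩ := h
  obtain ⟨T, hT⟩ := exists_trunc hk s
  have h1 : LinearMap.ker f ≤ LinearMap.ker Λ := fun x hx => hker x hx
  obtain ⟨Λ₀, hΛ₀⟩ := LinearMap.exists_extend
    (((LinearMap.ker f).liftQ Λ h1).comp f.quotKerEquivRange.symm.toLinearMap)
  have h2 : ∀ x, Λ₀ (f x) = Λ x := by
    intro x
    have h3 : f.quotKerEquivRange.symm ⟨f x, LinearMap.mem_range_self f x⟩ = Submodule.Quotient.mk x := by
      rw [LinearEquiv.symm_apply_eq]
      rfl
    have h4 := LinearMap.congr_fun hΛ₀ ⟨f x, LinearMap.mem_range_self f x⟩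
    rw [LinearMap.comp_apply, LinearMap.comp_apply, LinearEquiv.coe_coe, h3] at h4
    exact h4
  have hcomp : ∀ (m : ℤ) (x : W), cp 𝒲' m (f x) = f (cp 𝒲 m x) := by
    intro m x
    induction x using hom_induction 𝒲 with
    | h0 => simp
    | hadd x y hx hy => rw [map_add, map_add, hx, hy, map_add, map_add]
    | hh j x hx =>
      rw [cp_of_mem 𝒲 hx, cp_of_mem 𝒲' (hf j x hx)]
      split
      · rfl
      · rw [map_zero]
  refine ⟨Λ₀ ∘ₗ T, ⟨s, fun m hm x hx => ?_⟩, fun x => ?_⟩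
  · rw [LinearMap.comp_apply, hT, Finset.sum_eq_zero, map_zero]
    intro j hj
    exact cp_ne 𝒲' hx (fun h => hm (h ▸ hj))
  · rw [LinearMap.comp_apply, hT]
    simp only [hcomp]
    rw [← map_sum, h2]
    classical
    obtain ⟨t, ht, ht'⟩ := exists_finset 𝒲 x
    have h1 : x = ∑ m ∈ s ∪ t, cp 𝒲 m x :=
      (cp_sum_of_finset 𝒲 (fun n hn => ht' n (fun hh => hn (Finset.mem_union_right _ hh)))).symm
    conv_rhs => rw [h1]
    rw [map_sum, map_sum]
    apply Finset.sum_subset Finset.subset_union_left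
    intro m _ hm
    exact hs m hm _ (cp_mem 𝒲 m x)

end FinS

variable {k : Type u} [Field k] {R : Type u} [CommRing R] [Algebra k R] {σ : Type u} [SetLike σ R]
  [AddSubgroupClass σ R] {𝒜 : ℤ → σ} [GradedRing 𝒜]
  {a : HomogeneousIdeal 𝒜} {n : ℕ}
  {I : StarInjRes 𝒜 𝒜} [Module k (I.H a n)] [IsScalarTower k R (I.H a n)] [DirectSum.Decomposition (I.Hgr a n)]
  {K : Type u} [AddCommGroup K] [Module R K] [Module k K] [IsScalarTower k R K] {𝒦 : ℤ → AddSubgroup K}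
  [DirectSum.Decomposition 𝒦] [SetLike.GradedSMul 𝒜 𝒦] {βK : K →ₗ[k] I.H a n →ₗ[k] k}
  {M : Type u} [AddCommGroup M] [Module R M] {ℳ : ℤ → AddSubgroup M}
  [DirectSum.Decomposition ℳ] [SetLike.GradedSMul 𝒜 ℳ]
  {EM : StarInjRes 𝒜 ℳ} [Module k (EM.H a n)] [IsScalarTower k R (EM.H a n)]
variable (hK : GrSeg.IsGDual R (I.Hgr a n) 𝒦 βK)

variable (βK EM) in
/-- the map `ψ` corresponds to the functional `Λ` -/
def Rel (ψ : M →ₗ[R] K) (Λ : EM.H a n →ₗ[k] k) : Prop :=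
  ∀ (x : M) (h : I.H a n), Λ (mu I EM a n x h) = βK (ψ x) h

include hK

theorem rel_of (Λ : EM.H a n →ₗ[k] k) (hΛ : FinS (EM.Hgr a n) Λ) : ∃ ψ : M →ₗ[R] K, Rel βK EM ψ Λ := by
  classical
  have h1 : ∀ x : M, ∃ y : K, ∀ h, βK y h = Λ (mu I EM a n x h) := by
    intro x
    induction x using hom_induction ℳ with
    | h0 => exact ⟨0, fun h => by simp⟩
    | hadd x x' h1 h2 =>
      obtain ⟨y, hy⟩ := h1
      obtain ⟨y', hy'⟩ := h2
      exact ⟨y + y', fun h => by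
        rw [map_add, LinearMap.add_apply, hy, hy', map_add, LinearMap.add_apply, map_add]⟩
    | hh e x hx =>
      obtain ⟨s, hs⟩ := hΛ
      refine exists_rep hK (s.image (fun m => m - e)) (Λ.comp ((mu I EM a n x).restrictScalars k))
        fun m hm h hh => ?_
      refine hs (m + e) (fun hm' => hm ?_) _ (mu_mem I EM a n hx hh)
      rw [Finset.mem_image]
      exact ⟨m + e, hm', by omega⟩
  choose val hval using h1
  have huniq : ∀ (x : M) (y : K), (∀ h, βK y h = Λ (mu I EM a n x h)) → val x = y := fun x y hy =>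
    beta_ext hK fun h => by rw [hval, hy]
  exact ⟨{ toFun := val
           map_add' := fun x y => huniq _ _ fun h => by
            rw [map_add, LinearMap.add_apply, hval, hval, map_add, LinearMap.add_apply, map_add]
           map_smul' := fun r x => huniq _ _ fun h => by
            rw [RingHom.id_apply, hK.map_smul, hval, map_smul (mu I EM a n x), map_smul (mu I EM a n),
              LinearMap.smul_apply] }, fun x h => (hval x h).symm⟩

theorem Rel.unique_left {ψ ψ' : M →ₗ[R] K} {Λ : EM.H a n →ₗ[k] k} (h : Rel βK EM ψ Λ) (h' : Rel βK EM ψ' Λ) :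
    ψ = ψ' :=
  LinearMap.ext fun x => beta_ext hK fun y => by rw [← h x y, h' x y]

omit hK [DirectSum.Decomposition (I.Hgr a n)]
omit [DirectSum.Decomposition 𝒦] [SetLike.GradedSMul 𝒜 𝒦]

theorem Rel.unique_right [IsNoetherianRing R] [Module.Finite R M] (hn : ringKrullDim R ≤ n)
    {ψ : M →ₗ[R] K} {Λ Λ' : EM.H a n →ₗ[k] k} (h : Rel βK EM ψ Λ)
    (h' : Rel βK EM ψ Λ') : Λ = Λ' := by
  have h1 : ∀ (x : M) (h : I.H a n), (Λ - Λ') (mu I EM a n x h) = 0 := fun x y => by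
    rw [LinearMap.sub_apply, h x y, h' x y, sub_self]
  have h2 : ∀ z : EM.H a n, ∀ r : R, (Λ - Λ') (r • z) = 0 := by
    intro z
    refine Submodule.span_induction ?_ ?_ ?_ ?_ (span_mu I EM a hn z)
    · rintro _ ⟨x, h, rfl⟩ r
      rw [← LinearMap.smul_apply, ← map_smul, h1]
    · intro r; rw [smul_zero, map_zero]
    · intro x y _ _ hx hy r
      rw [smul_add, map_add, hx, hy, add_zero]
    · intro s x _ hx r
      rw [smul_smul, hx]
  rw [← sub_eq_zero]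
  refine LinearMap.ext fun z => ?_
  have := h2 z 1
  rwa [one_smul] at this

theorem Rel.add {ψ ψ' : M →ₗ[R] K} {Λ Λ' : EM.H a n →ₗ[k] k} (h : Rel βK EM ψ Λ) (h' : Rel βK EM ψ' Λ') :
    Rel βK EM (ψ + ψ') (Λ + Λ') := fun x y => by
  rw [LinearMap.add_apply, LinearMap.add_apply, map_add, LinearMap.add_apply, h x y, h' x y]

theorem Rel.zero : Rel βK EM (0 : M →ₗ[R] K) (0 : EM.H a n →ₗ[k] k) := fun x y => by simp

theorem Rel.eq_zero {Λ : EM.H a n →ₗ[k] k} [DirectSum.Decomposition (I.Hgr a n)]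
    [DirectSum.Decomposition 𝒦] (hK : GrSeg.IsGDual R (I.Hgr a n) 𝒦 βK) {ψ : M →ₗ[R] K}
    (h : Rel βK EM ψ Λ) (hΛ : Λ = 0) : ψ = 0 :=
  LinearMap.ext fun x => beta_inj hK fun y => by rw [← h x y, hΛ, LinearMap.zero_apply]

theorem Rel.smul [DirectSum.Decomposition (I.Hgr a n)]
    [DirectSum.Decomposition 𝒦] (hK : GrSeg.IsGDual R (I.Hgr a n) 𝒦 βK) {ψ : M →ₗ[R] K} {Λ Λ' : EM.H a n →ₗ[k] k} (h : Rel βK EM ψ Λ)
    (r : R) (hΛ' : ∀ z, Λ' z = Λ (r • z)) : Rel βK EM (r • ψ) Λ' := fun x y => by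
  rw [LinearMap.smul_apply, hK.map_smul, ← h x, hΛ', map_smul (mu I EM a n x)]

theorem Rel.comp {N : Type u} [AddCommGroup N] [Module R N] {𝒩 : ℤ → AddSubgroup N}
    [DirectSum.Decomposition 𝒩] [SetLike.GradedSMul 𝒜 𝒩] {EN : StarInjRes 𝒜 𝒩} [Module k (EN.H a n)]
    [IsScalarTower k R (EN.H a n)] {ψ : M →ₗ[R] K} {Λ : EM.H a n →ₗ[k] k} (h : Rel βK EM ψ Λ)
    {f : N →ₗ[R] M} {d : ℤ} (hf : IsGrHomDeg 𝒩 ℳ f d) :
    Rel βK EN (ψ ∘ₗ f) (Λ ∘ₗ (Hmap EN EM a n f hf).restrictScalars k) := fun x y => by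
  change Λ (Hmap EN EM a n f hf (mu I EN a n x y)) = _
  rw [Hmap_mu I EN EM a n hf, h]
  rfl

attribute [local instance] K761.Gr.freeDec K761.Gr.freeGSMul

theorem exists_of_homog [DirectSum.Decomposition (I.Hgr a n)] [DirectSum.Decomposition 𝒦]
    [DirectSum.Decomposition (EM.Hgr a n)]
    (hK : GrSeg.IsGDual R (I.Hgr a n) 𝒦 βK) [IsNoetherianRing R] [Module.Finite R M] (hn : ringKrullDim R ≤ n) {j : ℤ} {ψ : M →ₗ[R] K}
    (hψ : IsGrHomDeg ℳ 𝒦 ψ j) : ∃ Λ : EM.H a n →ₗ[k] k, FinS (EM.Hgr a n) Λ ∧ Rel βK EM ψ Λ := by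
  obtain ⟨X, _, deg, v, hv, hsurj⟩ := exists_cover R ℳ
  obtain ⟨G⟩ := nonempty_res 𝒜 (K761.Gr.freeGr 𝒜 deg)
  letI : Module k (G.H a n) := Module.compHom _ (algebraMap k R)
  haveI : IsScalarTower k R (G.H a n) := ⟨fun c r z => by
    rw [Algebra.smul_def, mul_smul]
    rfl⟩
  let π : (X →₀ R) →ₗ[R] M := Finsupp.linearCombination R v
  let Hπ := Hmap G EM a n π (cover_deg deg v hv)
  have hHπ : Function.Surjective Hπ := (surj_and_exact deg v hv hsurj G EM a hn).1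
  let Λ : G.H a n →ₗ[k] k := ∑ x : X, (βK (ψ (v x))).comp ((coord deg I G a n x).restrictScalars k)
  have hΛ : ∀ z, Λ z = ∑ x : X, βK (ψ (v x)) (coord deg I G a n x z) := fun z => by
    simp only [Λ, LinearMap.sum_apply, LinearMap.comp_apply, LinearMap.restrictScalars_apply]
  have hΛmu : ∀ (y : X →₀ R) (h : I.H a n), Λ (mu I G a n y h) = βK (ψ (π y)) h := by
    intro y h
    rw [hΛ]
    simp only [coord_mu, ← hK.map_smul, ← map_smul]
    rw [← LinearMap.sum_apply, ← map_sum, ← map_sum]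
    congr 3
    simp only [π, Finsupp.linearCombination_apply]
    rw [Finsupp.sum_fintype]
    intro i; rw [zero_smul]
  have hker : LinearMap.ker (Hπ.restrictScalars k) ≤ LinearMap.ker Λ := by
    intro z hz
    have h3 : ∀ r : R, Λ (r • z) = 0 := by
      refine Submodule.span_induction ?_ ?_ ?_ ?_ (ker_mu deg v hv hsurj I G EM a hn z hz)
      · rintro _ ⟨y, h, hy, rfl⟩ r
        rw [← LinearMap.smul_apply, ← map_smul, hΛmu, map_smul]
        have : π y = 0 := hy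
        rw [this, smul_zero, map_zero, map_zero, LinearMap.zero_apply]
      · intro r; rw [smul_zero, map_zero]
      · intro x y _ _ hx hy r
        rw [smul_add, map_add, hx, hy, add_zero]
      · intro s x _ hx r
        rw [smul_smul, hx]
    have := h3 1
    rwa [one_smul] at this
  let e := LinearMap.quotKerEquivOfSurjective (Hπ.restrictScalars k) hHπ
  let Λ' : EM.H a n →ₗ[k] k := ((LinearMap.ker (Hπ.restrictScalars k)).liftQ Λ hker).comp e.symm.toLinearMap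
  have hΛ' : ∀ z, Λ' (Hπ z) = Λ z := by
    intro z
    have : e.symm (Hπ z) = Submodule.Quotient.mk z := by
      rw [LinearEquiv.symm_apply_eq]
      rfl
    change (LinearMap.ker (Hπ.restrictScalars k)).liftQ Λ hker (e.symm (Hπ z)) = _
    rw [this, Submodule.liftQ_apply]
  have hsupp : ∀ m ∉ ({-j} : Finset ℤ), ∀ z ∈ EM.Hgr a n m, Λ' z = 0 := by
    intro m hm z hz
    obtain ⟨w, rfl⟩ := hHπ z
    letI := K963.Cat.Hdec G a n
    have h4 := map_proj_deg (ℳ := G.Hgr a n) (𝒩 := EM.Hgr a n) Hπ (d := 0)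
      (fun g x hx => Hmap_mem G EM a n (cover_deg deg v hv) hx) m w
    rw [add_zero, K963.Dec.proj_of_mem (EM.Hgr a n) hz] at h4
    rw [← h4, hΛ', hΛ]
    refine Finset.sum_eq_zero fun x _ => ?_
    have h5 : coord deg I G a n x (K963.Dec.proj (G.Hgr a n) m w) ∈ I.Hgr a n (m + -deg x) :=
      coord_mem deg I G a n x (K963.Dec.proj_mem (G.Hgr a n) m w)
    refine hK.vanish (deg x + j) _ (hψ _ _ (hv x)) _ ?_ _ h5
    intro h6
    apply hm
    rw [Finset.mem_singleton]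
    omega
  refine ⟨Λ', ⟨_, hsupp⟩, fun x h => ?_⟩
  obtain ⟨y, rfl⟩ := hsurj x
  have h6 : mu I EM a n (π y) h = Hπ (mu I G a n y h) := (Hmap_mu I G EM a n (cover_deg deg v hv) y h).symm
  change Λ' (mu I EM a n (π y) h) = βK (ψ (π y)) h
  rw [h6, hΛ', hΛmu]

theorem exists_rel [DirectSum.Decomposition (I.Hgr a n)] [DirectSum.Decomposition 𝒦] [SetLike.GradedSMul 𝒜 𝒦]
    [DirectSum.Decomposition (EM.Hgr a n)]
    (hK : GrSeg.IsGDual R (I.Hgr a n) 𝒦 βK) [IsNoetherianRing R] [Module.Finite R M] (hn : ringKrullDim R ≤ n)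
    (ψ : M →ₗ[R] K) : ∃ Λ : EM.H a n →ₗ[k] k, FinS (EM.Hgr a n) Λ ∧ Rel βK EM ψ Λ := by
  obtain ⟨S, -, hS⟩ := K761.Gr.exists_finset_homPr 𝒜 ℳ 𝒦 ψ
  rw [← hS S subset_rfl]
  generalize S = T
  classical
  induction T using Finset.induction_on with
  | empty => exact ⟨0, FinS.zero, by rw [Finset.sum_empty]; exact Rel.zero⟩
  | insert j s hj ih =>
    obtain ⟨Λ, h1, h2⟩ := ih
    obtain ⟨Λ', h1', h2'⟩ := exists_of_homog (EM := EM) hK hn (K761.Gr.homPr_isGrHomDeg 𝒜 ℳ 𝒦 ψ j)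
    exact ⟨Λ' + Λ, h1'.add h1, by rw [Finset.sum_insert hj]; exact h2'.add h2⟩

end K993.TopRel
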